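import Cfsg.Agent.Lib.Spor.HNPres.Lev1
import Cfsg.Agent.Lib.Spor.HNPres.Lev2
import Cfsg.Agent.Lib.Spor.HNPres.Lev3
import Cfsg.Agent.Lib.Spor.HNPres.Lev4
import Cfsg.Agent.Lib.Spor.HNPres.Lev5
import Mathlib.Tactic.IntervalCases

/-!
A group generated by elements satisfying the relations on x, y, z has at most six times the order of
the automorphism group of the Higman–Sims graph.
-/

set_option autoImplicit false
set_option maxRecDepth 100000

namespace Cfsg.Agent.Spor.HNPres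

open Cfsg.Agent.Spor.PC

variable {G : Type*} [Group G]

/-- value of a word -/
def wd (g : ℕ → G) (l : List ℕ) : G := (l.map g).prod

theorem wd_app (g : ℕ → G) (u v : List ℕ) : wd g (u ++ v) = wd g u * wd g v := by simp [wd]

theorem wd_rep (g : ℕ → G) (w : List ℕ) : ∀ n, wd g (List.replicate n w).flatten = wd g w ^ n
  | 0 => by simp [wd]
  | n + 1 => by rw [List.replicate_succ, List.flatten_cons, wd_app, wd_rep g w n, pow_succ']

/-- two generators and their inverses -/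
def g4 (a b : G) : ℕ → G
  | 0 => a
  | 1 => a⁻¹
  | 2 => b
  | 3 => b⁻¹
  | _ => 1

/-- three generators, the last an involution -/
def g5 (a b c : G) : ℕ → G
  | 0 => a
  | 1 => a⁻¹
  | 2 => b
  | 3 => b⁻¹
  | 4 => c
  | _ => 1

/-- the relations -/
structure Rels (x y z : G) : Prop where
  y6 : y ^ 6 = 1
  r2 : (x ^ 2) * y * (x ^ 2) * (y⁻¹) = 1
  r3 : (x⁻¹ * y⁻¹ * x * y) ^ 3 = 1
  r4 : ((x⁻¹) * (y ^ 2) * x * (y ^ 3)) ^ 3 = 1
  r5 : (x * y) ^ 8 = 1
  r6 : (x * y * x * (y ^ 3)) ^ 4 = 1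
  zz : z ^ 2 = 1
  zx : (z * x) ^ 2 = 1
  r9 : (z⁻¹ * (y * x * y * x * (y ^ 2) * x * (y⁻¹))⁻¹ * z * (y * x * y * x * (y ^ 2) * x * (y⁻¹))) * ((x ^ 2)⁻¹) = 1
  r10 : z * (((((y ^ 3) * x * y * x * y)⁻¹ * z * ((y ^ 3) * x * y * x * y)) * x) ^ 3) = 1

variable {x y z : G}

theorem Rels.z_inv (h : Rels x y z) : z⁻¹ = z := inv_eq_of_mul_eq_one_right (by rw [← pow_two, h.zz])

/-- relators on x, y -/
def uRel : List (List ℕ) := [[2, 2, 2, 2, 2, 2], [0, 0, 2, 0, 0, 3], (List.replicate 3 [1, 3, 0, 2]).flatten,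
  (List.replicate 3 [1, 2, 2, 0, 2, 2, 2]).flatten, (List.replicate 8 [0, 2]).flatten,
  (List.replicate 4 [0, 2, 0, 2, 2, 2]).flatten]

/-- relators involving z -/
def zRel : List (List ℕ) := [[4, 4], [4, 0, 4, 0],
  [4, 2, 1, 3, 3, 1, 3, 1, 3, 4, 2, 0, 2, 0, 2, 2, 0, 3, 1, 1],
  [4] ++ (List.replicate 3 [3, 1, 3, 1, 3, 3, 3, 4, 2, 2, 2, 0, 2, 0, 2, 0]).flatten]

/-- cancellations -/
def can4 : List (List ℕ) := [[0, 1], [1, 0], [2, 3], [3, 2]]

theorem Rels.u_one (h : Rels x y z) : ∀ g : ℕ → G, g 0 = x → g 1 = x⁻¹ → g 2 = y → g 3 = y⁻¹ →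
    ∀ l ∈ uRel, wd g l = 1 := by
  intro g h0 h1 h2 h3 l hl
  simp only [uRel, List.mem_cons, List.not_mem_nil, or_false] at hl
  rcases hl with rfl | rfl | rfl | rfl | rfl | rfl
  · rw [← h.y6]; simp [wd, h2, pow_succ, mul_assoc]
  · rw [← h.r2]; simp [wd, h0, h2, h3, pow_two, mul_assoc]
  · rw [wd_rep, ← h.r3]; simp [wd, h0, h1, h2, h3, mul_assoc]
  · rw [wd_rep, ← h.r4]; simp [wd, h0, h1, h2, pow_succ, mul_assoc]
  · rw [wd_rep, ← h.r5]; simp [wd, h0, h2]
  · rw [wd_rep, ← h.r6]; simp [wd, h0, h2, pow_succ, mul_assoc]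

theorem Rels.p_one (h : Rels x y z) : ∀ l ∈ uRel ++ zRel ++ can4 ++ [[4, 4]], wd (g5 x y z) l = 1 := by
  intro l hl
  simp only [List.mem_append, or_assoc] at hl
  rcases hl with hl | hl | hl | hl
  · exact h.u_one (g5 x y z) rfl rfl rfl rfl l hl
  · simp only [zRel, List.mem_cons, List.not_mem_nil, or_false] at hl
    rcases hl with rfl | rfl | rfl | rfl
    · rw [← h.zz]; simp [wd, g5, pow_two]
    · rw [← h.zx]; simp [wd, g5, pow_two, mul_assoc]
    · rw [← h.r9]; simp [wd, g5, h.z_inv, pow_two, mul_assoc]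
    · rw [wd_app, wd_rep, ← h.r10]; simp [wd, g5, pow_succ, mul_assoc]
  · simp only [can4, List.mem_cons, List.not_mem_nil, or_false] at hl
    rcases hl with rfl | rfl | rfl | rfl <;> simp [wd, g5]
  · simp only [List.mem_cons, List.not_mem_nil, or_false] at hl
    subst hl
    rw [← h.zz]; simp [wd, g5, pow_two]

theorem iv5 (h : Rels x y z) : ∀ k, k < 16 → g5 x y z (ivL Lev5.dat.iw k) = (g5 x y z k)⁻¹ := by
  have e : (List.range 16).map (ivL Lev5.dat.iw) = [1, 0, 3, 2, 4, 5, 6, 7, 8, 9, 10, 11, 12, 13, 14, 15] := by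
    decide +kernel
  intro k hk
  have e' : ivL Lev5.dat.iw k = [1, 0, 3, 2, 4, 5, 6, 7, 8, 9, 10, 11, 12, 13, 14, 15].getD k 0 := by
    rw [← e]; simp [hk]
  rw [e']
  interval_cases k <;> simp [g5, h.z_inv]

theorem iv4 (a b : G) : ∀ k, k < 16 → g4 a b (ivL Lev4.dat.iw k) = (g4 a b k)⁻¹ := by
  have e : (List.range 16).map (ivL Lev4.dat.iw) = [1, 0, 3, 2, 4, 5, 6, 7, 8, 9, 10, 11, 12, 13, 14, 15] := by
    decide +kernel
  intro k hk
  have e' : ivL Lev4.dat.iw k = [1, 0, 3, 2, 4, 5, 6, 7, 8, 9, 10, 11, 12, 13, 14, 15].getD k 0 := by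
    rw [← e]; simp [hk]
  rw [e']
  interval_cases k <;> simp [g4]

/-- the words of a certificate -/
def wordsOf (D : Data) (st n : ℕ) : List (List ℕ) := (List.range n).map fun k => wDecode (fld D.words 512 (st + k))

theorem mem_wordsOf {D : Data} {st n : ℕ} {L : List (List ℕ)} (h : wordsOf D st n = L) {k : ℕ} (hk : k < n) :
    wDecode (fld D.words 512 (st + k)) ∈ L := h ▸ List.mem_map.2 ⟨k, List.mem_range.2 hk, rfl⟩

theorem moves_mem {D : Data} (g : ℕ → G) {L : List (List ℕ)} (h : wordsOf D D.nw D.ne = L) {l : List ℕ}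
    (hl : l ∈ L) : wd g l ∈ moves D g := by
  rw [← h, wordsOf, List.mem_map] at hl
  obtain ⟨k, hk, rfl⟩ := hl
  exact ⟨k, List.mem_range.1 hk, rfl⟩

theorem hrel_of {D : Data} {g : ℕ → G} {H : Subgroup G} {R S : List (List ℕ)} (hR : wordsOf D 0 D.nr = R)
    (hW : wordsOf D 0 D.nw = R ++ S) (h1 : ∀ l ∈ R, wd g l = 1) (h2 : ∀ l ∈ S, wd g l ∈ H) :
    ∀ k, k < D.nw → (k < D.nr → ((wDecode (fld D.words 512 k)).map g).prod = 1) ∧
      ((wDecode (fld D.words 512 k)).map g).prod ∈ H := by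
  intro k hk
  refine ⟨fun hk' => ?_, ?_⟩
  · have := h1 _ (mem_wordsOf hR hk')
    rwa [Nat.zero_add] at this
  · have hm := mem_wordsOf hW hk
    rw [Nat.zero_add] at hm
    rcases List.mem_append.1 hm with e | e
    · show wd g _ ∈ H
      rw [h1 _ e]
      exact one_mem H
    · exact h2 _ e

theorem eq_one_of_closed {D : Data} {m : ℕ} (hc : Checked D m) (g : ℕ → G)
    (hiv : ∀ k, k < 16 → g (ivL D.iw k) = (g k)⁻¹) (h15 : g 15 = 1)
    (hrel : ∀ k, k < D.nw → (k < D.nr → ((wDecode (fld D.words 512 k)).map g).prod = 1) ∧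
      ((wDecode (fld D.words 512 k)).map g).prod ∈ (⊥ : Subgroup G)) (hnn : D.nn = 1) {L : List (List ℕ)}
    (hm : wordsOf D D.nw D.ne = L) : ∀ l ∈ L, wd g l = 1 := by
  intro l hl
  obtain ⟨v, h0, hv⟩ := closed hc g ⊥ hiv h15 hrel
  obtain ⟨c, hc', hr⟩ := hv _ (moves_mem g hm hl) 0 hc.pos
  have hc0 : c = 0 := by omega
  subst hc0
  rw [hc.rep0, h0, Rel, one_mul, inv_one, mul_one, Subgroup.mem_bot] at hr
  exact hr

/-- relators of the subgroup of order 336 in its own letters -/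
def kRel : List (List ℕ) := [[0, 0, 0], [2, 2, 2, 2], [1, 3, 1, 3, 1, 3, 1, 3], [1, 1, 2, 0, 2, 0, 2, 0, 2],
  [1, 3, 1, 3, 1, 3, 1, 2, 2, 2], [1, 3, 3, 1, 2, 1, 2, 0, 2, 1, 2]]

/-- substitution into letters on x, y -/
def sb : ℕ → List ℕ
  | 0 => [2, 2]
  | 1 => [3, 3]
  | 2 => [0, 2, 0, 2]
  | _ => [3, 1, 3, 1]

theorem words1 : wordsOf Lev1.dat 0 15 = uRel ++ zRel ++ can4 ++ [[4, 4]] ∧
    wordsOf Lev1.dat 15 1 = [[0, 0, 0, 0]] := by decide +kernel

theorem words2 : wordsOf Lev2.dat 0 11 = uRel ++ [[0, 0, 0, 0]] ++ can4 ∧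
    wordsOf Lev2.dat 11 6 = kRel.map (fun l => l.flatMap sb) := by decide +kernel

theorem words3 : wordsOf Lev3.dat 0 10 = kRel ++ can4 ∧
    wordsOf Lev3.dat 10 4 = [[0], [1], [2], [3]] := by decide +kernel

theorem words4 : wordsOf Lev4.dat 0 11 = uRel ++ [[0, 0, 0, 0]] ++ can4 ∧
    wordsOf Lev4.dat 0 13 = (uRel ++ [[0, 0, 0, 0]] ++ can4) ++ [[2, 2], [0, 2, 0, 2]] ∧
    wordsOf Lev4.dat 13 4 = [[0], [1], [2], [3]] := by decide +kernel

theorem words5 : wordsOf Lev5.dat 0 16 = uRel ++ zRel ++ [[0, 0, 0, 0]] ++ can4 ++ [[4, 4]] ∧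
    wordsOf Lev5.dat 0 18 = (uRel ++ zRel ++ [[0, 0, 0, 0]] ++ can4 ++ [[4, 4]]) ++ [[0], [2]] ∧
    wordsOf Lev5.dat 18 5 = [[0], [1], [2], [3], [4]] := by decide +kernel

theorem x_four (h : Rels x y z) : x ^ 4 = 1 := by
  obtain ⟨hr, hm⟩ := words1
  have h1 := eq_one_of_closed Lev1.checked (g5 x y z) (iv5 h) rfl
    (hrel_of (S := []) hr (by rw [List.append_nil]; exact hr) h.p_one (by simp)) rfl hm [0, 0, 0, 0] (by simp)
  rw [← h1]
  simp [wd, g5, pow_succ, mul_assoc]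

theorem u_rels (h : Rels x y z) : ∀ l ∈ uRel ++ [[0, 0, 0, 0]] ++ can4, wd (g4 x y) l = 1 := by
  intro l hl
  simp only [List.mem_append, or_assoc] at hl
  rcases hl with hl | hl | hl
  · exact h.u_one (g4 x y) rfl rfl rfl rfl l hl
  · simp only [List.mem_cons, List.not_mem_nil, or_false] at hl
    subst hl
    rw [← x_four h]; simp [wd, g4, pow_succ, mul_assoc]
  · simp only [can4, List.mem_cons, List.not_mem_nil, or_false] at hl
    rcases hl with rfl | rfl | rfl | rfl <;> simp [wd, g4]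

theorem wd_sub (x y : G) : ∀ l : List ℕ, (∀ k ∈ l, k < 4) →
    wd (g4 x y) (l.flatMap sb) = wd (g4 (y * y) (x * y * x * y)) l
  | [], _ => rfl
  | k :: l, h => by
    have hk : k < 4 := h k List.mem_cons_self
    rw [List.flatMap_cons, wd_app, wd_sub x y l fun j hj => h j (List.mem_cons_of_mem k hj)]
    interval_cases k <;> simp [wd, sb, g4, mul_assoc]

theorem can4_one (a b : G) : ∀ l ∈ can4, wd (g4 a b) l = 1 := by
  intro l e
  simp only [can4, List.mem_cons, List.not_mem_nil, or_false] at e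
  rcases e with rfl | rfl | rfl | rfl <;> simp [wd, g4]

theorem k_bound (h : Rels x y z) : Finite (Subgroup.closure ({y * y, x * y * x * y} : Set G)) ∧
    Nat.card (Subgroup.closure ({y * y, x * y * x * y} : Set G)) ≤ 336 := by
  obtain ⟨hr, hm⟩ := words2
  have hk := eq_one_of_closed Lev2.checked (g4 x y) (iv4 x y) rfl
    (hrel_of (S := []) hr (by rw [List.append_nil]; exact hr) (u_rels h) (by simp)) rfl hm
  obtain ⟨hr3, hm3⟩ := words3
  have hone : ∀ l ∈ kRel ++ can4, wd (g4 (y * y) (x * y * x * y)) l = 1 := by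
    intro l hl
    rcases List.mem_append.1 hl with e | e
    · rw [← wd_sub x y l]
      · exact hk _ (List.mem_map.2 ⟨l, e, rfl⟩)
      · have hlt : (kRel.all fun l => l.all fun k => decide (k < 4)) = true := by decide
        exact fun k hk => by simpa using List.all_eq_true.1 (List.all_eq_true.1 hlt l e) k hk
    · exact can4_one _ _ l e
  obtain ⟨hf, hc⟩ := card_le Lev3.checked (g4 (y * y) (x * y * x * y)) ⊥ (iv4 _ _) rfl
    (hrel_of (S := []) hr3 (by rw [List.append_nil]; exact hr3) hone (by simp))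
    (Subgroup.closure ({y * y, x * y * x * y} : Set G)) {y * y, x * y * x * y} rfl (by
      have m := fun l hl => moves_mem (D := Lev3.dat) (g4 (y * y) (x * y * x * y)) hm3 (l := l) hl
      rintro w (rfl | rfl)
      · exact ⟨by simpa [wd, g4] using m [0] (by simp), by simpa [wd, g4] using m [1] (by simp)⟩
      · exact ⟨by simpa [wd, g4] using m [2] (by simp), by simpa [wd, g4] using m [3] (by simp)⟩)
  refine ⟨hf, hc.trans ?_⟩
  rw [show Nat.card (⊥ : Subgroup G) = 1 from Nat.card_unique]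
  decide +kernel

theorem xy_bound (h : Rels x y z) : Finite (Subgroup.closure ({x, y} : Set G)) ∧
    Nat.card (Subgroup.closure ({x, y} : Set G)) ≤ 4500 * 336 := by
  obtain ⟨hf, hc⟩ := k_bound h
  haveI := hf
  obtain ⟨hr, hw, hm⟩ := words4
  obtain ⟨f, c⟩ := card_le Lev4.checked (g4 x y) (Subgroup.closure ({y * y, x * y * x * y} : Set G)) (iv4 x y) rfl
    (hrel_of (S := [[2, 2], [0, 2, 0, 2]]) hr hw (u_rels h) (by
      intro l hl
      simp only [List.mem_cons, List.not_mem_nil, or_false] at hl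
      rcases hl with rfl | rfl <;> exact Subgroup.subset_closure (by simp [wd, g4, mul_assoc])))
    (Subgroup.closure ({x, y} : Set G)) {x, y} rfl (by
      have m := fun l hl => moves_mem (D := Lev4.dat) (g4 x y) hm (l := l) hl
      rintro w (rfl | rfl)
      · exact ⟨by simpa [wd, g4] using m [0] (by simp), by simpa [wd, g4] using m [1] (by simp)⟩
      · exact ⟨by simpa [wd, g4] using m [2] (by simp), by simpa [wd, g4] using m [3] (by simp)⟩)
  exact ⟨f, c.trans (Nat.mul_le_mul_left _ hc)⟩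

/-- the bound -/
theorem card_xyz_le (h : Rels x y z) : Finite (Subgroup.closure ({x, y, z} : Set G)) ∧
    Nat.card (Subgroup.closure ({x, y, z} : Set G)) ≤ 6 * 88704000 := by
  obtain ⟨hf, hc⟩ := xy_bound h
  haveI := hf
  obtain ⟨hr, hw, hm⟩ := words5
  obtain ⟨f, c⟩ := card_le Lev5.checked (g5 x y z) (Subgroup.closure ({x, y} : Set G)) (iv5 h) rfl
    (hrel_of (S := [[0], [2]]) hr hw (by
      intro l hl
      simp only [List.mem_append, or_assoc] at hl
      rcases hl with hl | hl | hl | hl | hl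
      · exact h.p_one l (by simp [hl])
      · exact h.p_one l (by simp [hl])
      · simp only [List.mem_cons, List.not_mem_nil, or_false] at hl
        subst hl
        rw [← x_four h]; simp [wd, g5, pow_succ, mul_assoc]
      · exact h.p_one l (by simp [hl])
      · exact h.p_one l (by simp [hl])) (by
      intro l hl
      simp only [List.mem_cons, List.not_mem_nil, or_false] at hl
      rcases hl with rfl | rfl <;> exact Subgroup.subset_closure (by simp [wd, g5])))
    (Subgroup.closure ({x, y, z} : Set G)) {x, y, z} rfl (by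
      have m := fun l hl => moves_mem (D := Lev5.dat) (g5 x y z) hm (l := l) hl
      rintro w (rfl | rfl | rfl)
      · exact ⟨by simpa [wd, g5] using m [0] (by simp), by simpa [wd, g5] using m [1] (by simp)⟩
      · exact ⟨by simpa [wd, g5] using m [2] (by simp), by simpa [wd, g5] using m [3] (by simp)⟩
      · exact ⟨by simpa [wd, g5] using m [4] (by simp), by rw [h.z_inv]; simpa [wd, g5] using m [4] (by simp)⟩)
  refine ⟨f, c.trans ?_⟩
  calc Lev5.dat.nn * Nat.card (Subgroup.closure ({x, y} : Set G)) ≤ Lev5.dat.nn * (4500 * 336) :=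
        Nat.mul_le_mul_left _ hc
    _ ≤ _ := by decide +kernel

end Cfsg.Agent.Spor.HNPres
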