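import Cfsg.Agent.Lib.Spor.HNPres.Bound
import Cfsg.Prelude.Def_KGroupFacts
import Cfsg.Prelude.Def_SporadicB

/-!
A group on three generators satisfying the relations, which maps onto a group of order 88704000 with a simple
subgroup of index two having multiplier of order two, has a double cover of that simple group as its even part.
-/

set_option autoImplicit false
set_option linter.style.haveILetI false
set_option linter.unusedSectionVars false

open scoped commutatorElement

namespace Cfsg.Agent.Spor.HNPres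

/-- a group of order at most three is commutative -/
theorem comm_of_card_le_three {G : Type*} [Group G] [Finite G] (h : Nat.card G ≤ 3) (a b : G) :
    a * b = b * a := by
  classical
  by_contra hne
  haveI := Fintype.ofFinite G
  rw [Nat.card_eq_fintype_card] at h
  have ha : a ≠ 1 := by rintro rfl; simp at hne
  have hb : b ≠ 1 := by rintro rfl; simp at hne
  have hab : a ≠ b := by rintro rfl; exact hne rfl
  have h1 : a * b ≠ 1 := fun e => hne (by rw [e, mul_eq_one_comm.1 e])
  have h2 : a * b ≠ a := fun e => hb (mul_eq_left.1 e)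
  have h3 : a * b ≠ b := fun e => ha (mul_eq_right.1 e)
  have : ({1, a, b, a * b} : Finset G).card = 4 := by
    rw [Finset.card_insert_of_notMem (by simp [Ne.symm ha, Ne.symm hb, Ne.symm h1]),
      Finset.card_insert_of_notMem (by simp [hab, Ne.symm h2]), Finset.card_insert_of_notMem (by simp [Ne.symm h3]),
      Finset.card_singleton]
  have := this ▸ Finset.card_le_univ ({1, a, b, a * b} : Finset G)
  omega

variable {P : Type*} [Group P] {x y z : P}

theorem Rels.x2_central_y (h : Rels x y z) : Commute (x ^ 2) y := by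
  have h4 := x_four h
  have h2 := h.r2
  rw [mul_inv_eq_one] at h2
  have : (x ^ 2)⁻¹ = x ^ 2 := inv_eq_of_mul_eq_one_right (by rw [← pow_add]; exact h4)
  show x ^ 2 * y = y * x ^ 2
  calc x ^ 2 * y = x ^ 2 * y * x ^ 2 * (x ^ 2)⁻¹ := by group
    _ = y * (x ^ 2)⁻¹ := by rw [h2]
    _ = y * x ^ 2 := by rw [this]

theorem Rels.x2_central_z (h : Rels x y z) : Commute (x ^ 2) z := by
  have h4 := x_four h
  have hzx : z * x * z = x⁻¹ := by
    apply eq_inv_of_mul_eq_one_left
    rw [← h.zx, pow_two]; group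
  have hi : (x ^ 2)⁻¹ = x ^ 2 := inv_eq_of_mul_eq_one_right (by rw [← pow_add]; exact h4)
  have e : z * x ^ 2 * z = x ^ 2 := by
    calc z * x ^ 2 * z = (z * x * z) * (z * x * z) := by
          rw [pow_two]
          calc z * (x * x) * z = z * x * (z ^ 2) * x * z := by rw [h.zz]; group
            _ = _ := by rw [pow_two]; group
      _ = (x ^ 2)⁻¹ := by rw [hzx, ← mul_inv_rev, ← pow_two]
      _ = x ^ 2 := hi
  show x ^ 2 * z = z * x ^ 2
  calc x ^ 2 * z = z * x ^ 2 * z * z := by rw [e]
    _ = z * x ^ 2 * (z ^ 2) := by rw [pow_two z]; group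
    _ = z * x ^ 2 := by rw [h.zz, mul_one]

/-- commuting images of x and y are trivial -/
theorem Rels.abelian_collapse {S : Type*} [Group S] (h : Rels x y z) (f : P →* S) (hc : Commute (f x) (f y)) :
    f x = 1 ∧ f y = 1 := by
  have h4 : f x ^ 4 = 1 := by rw [← map_pow, x_four h, map_one]
  have hzc : Commute (f x ^ 2) (f z) := by
    have := h.x2_central_z.map f
    rwa [map_pow] at this
  have h6 : f y ^ 6 = 1 := by rw [← map_pow, h.y6, map_one]
  have e8 : f y ^ 8 = 1 := by
    have := congrArg f h.r5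
    rw [map_pow, map_mul, hc.mul_pow, map_one] at this
    rwa [show 8 = 4 * 2 from rfl, pow_mul (f x), h4, one_pow, one_mul] at this
  have y2 : f y ^ 2 = 1 := by
    rw [show 8 = 6 + 2 from rfl, pow_add, h6, one_mul] at e8
    exact e8
  have y3 : f y ^ 3 = 1 := by
    have hr := congrArg f h.r4
    simp only [map_mul, map_inv, map_pow, map_one] at hr
    have e : (f x)⁻¹ * f y ^ 2 * f x * f y ^ 3 = f y ^ 3 := by rw [y2, mul_one, inv_mul_cancel, one_mul]
    rw [e] at hr
    calc f y ^ 3 = (f y ^ 3) ^ 3 * ((f y ^ 2) ^ 3)⁻¹ := by group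
      _ = 1 := by rw [hr, y2, one_pow, inv_one, mul_one]
  have hy : f y = 1 := by
    calc f y = f y ^ 3 * (f y ^ 2)⁻¹ := by group
      _ = 1 := by rw [y3, y2, inv_one, mul_one]
  refine ⟨?_, hy⟩
  have hr := congrArg f h.r10
  simp only [map_mul, map_inv, map_pow, map_one, hy, one_pow, one_mul, mul_one] at hr
  have e : (f x * f x)⁻¹ * f z * (f x * f x) = f z := by
    rw [← pow_two, mul_assoc, ← hzc.eq, inv_mul_cancel_left]
  rw [e] at hr
  have h1 := congrArg f h.zx
  have h2 := congrArg f h.zz
  rw [map_pow, map_mul, map_one] at h1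
  rw [map_pow, map_one, pow_two] at h2
  rw [pow_succ, h1, one_mul, ← mul_assoc, h2, one_mul] at hr
  exact hr

theorem closure_mem {x y z : P} (hgen : Subgroup.closure ({x, y, z} : Set P) = ⊤) (M : Subgroup P) (hx : x ∈ M)
    (hy : y ∈ M) (hz : z ∈ M) (g : P) : g ∈ M := by
  have h : Subgroup.closure ({x, y, z} : Set P) ≤ M := by
    rw [Subgroup.closure_le]
    rintro w (rfl | rfl | rfl) <;> assumption
  exact h (by rw [hgen]; trivial)

/-- the even part is perfect -/
theorem Rels.even_perfect (h : Rels x y z) (hgen : Subgroup.closure ({x, y, z} : Set P) = ⊤) (s : P →* ℤˣ)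
    (hx : s x = 1) (hy : s y = 1) (hz : s z = -1) : ⁅s.ker, s.ker⁆ = s.ker := by
  refine le_antisymm (Subgroup.commutator_le_right _ _) ?_
  set M := ⁅s.ker, s.ker⁆
  have hc : Commute (QuotientGroup.mk' M x) (QuotientGroup.mk' M y) := by
    rw [← commutatorElement_eq_one_iff_commute, ← map_commutatorElement]
    exact (QuotientGroup.eq_one_iff _).2 (Subgroup.commutator_mem_commutator hx hy)
  obtain ⟨e1, e2⟩ := h.abelian_collapse _ hc
  have mx : x ∈ M := (QuotientGroup.eq_one_iff _).1 e1
  have my : y ∈ M := (QuotientGroup.eq_one_iff _).1 e2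
  have key : ∀ g, g ∈ M ∨ g * z ∈ M := by
    intro g
    have : g ∈ M ⊔ Subgroup.zpowers z :=
      closure_mem hgen _ (Subgroup.mem_sup_left mx) (Subgroup.mem_sup_left my)
        (Subgroup.mem_sup_right (Subgroup.mem_zpowers z)) g
    obtain ⟨m, hm, u, hu, rfl⟩ := Subgroup.mem_sup_of_normal_left.1 this
    obtain ⟨n, rfl⟩ := Subgroup.mem_zpowers_iff.1 hu
    have z2 : z ^ (2 : ℤ) = 1 := by rw [zpow_ofNat, h.zz]
    rcases Int.even_or_odd' n with ⟨k, rfl | rfl⟩
    · exact Or.inl (by rw [zpow_mul, z2, one_zpow, mul_one]; exact hm)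
    · exact Or.inr (by rw [zpow_add, zpow_mul, z2, one_zpow, one_mul, zpow_one, mul_assoc, ← pow_two, h.zz, mul_one]; exact hm)
  intro g hg
  rcases key g with hm | hm
  · exact hm
  · exfalso
    have := MonoidHom.mem_ker.1 (Subgroup.commutator_le_right s.ker s.ker hm)
    rw [map_mul, MonoidHom.mem_ker.1 hg, one_mul, hz] at this
    exact absurd this (by decide)

section
variable {A : Type} [Group A] [Finite A] (π : P →* A) (s : A →* ℤˣ)

/-- the map from the even part onto the even part of the image -/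
def evenMap : ↥(s.comp π).ker →* ↥s.ker where
  toFun g := ⟨π (g : P), g.2⟩
  map_one' := Subtype.ext (map_one π)
  map_mul' a b := Subtype.ext (map_mul π (a : P) (b : P))

theorem evenMap_surjective (hπ : Function.Surjective π) : Function.Surjective (evenMap π s) := by
  rintro ⟨a, ha⟩
  obtain ⟨g, rfl⟩ := hπ a
  exact ⟨⟨g, ha⟩, rfl⟩

end

/-- The data of the argument. -/
structure Setup {P A : Type} [Group P] [Group A] (x y z : P) (π : P →* A) (s : A →* ℤˣ) : Prop where
  rels : Rels x y z
  gen : Subgroup.closure ({x, y, z} : Set P) = ⊤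
  surj : Function.Surjective π
  card : Nat.card A = 88704000
  sx : s (π x) = 1
  sy : s (π y) = 1
  sz : s (π z) = -1
  x2 : π (x ^ 2) = 1
  simple : IsSimpleGroup ↥s.ker
  mult : Cfsg.HasCyclicSchurMultiplier ↥s.ker 2
  centre : ∀ a, (∀ b, a * b = b * a) → a = (1 : A)

namespace Setup

variable {P A : Type} [Group P] [Group A] {x y z : P} {π : P →* A} {s : A →* ℤˣ}

theorem finite_A (S : Setup x y z π s) : Finite A := Nat.finite_of_card_ne_zero (by rw [S.card]; norm_num)

theorem finite_P (S : Setup x y z π s) : Finite P ∧ Nat.card P ≤ 6 * 88704000 := by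
  have h := card_xyz_le S.rels
  rw [S.gen] at h
  haveI := h.1
  exact ⟨Finite.of_equiv _ Subgroup.topEquiv.toEquiv, by rw [← Nat.card_congr Subgroup.topEquiv.toEquiv]; exact h.2⟩

theorem x2_central (S : Setup x y z π s) (g : P) : g * x ^ 2 = x ^ 2 * g := by
  have hg := closure_mem S.gen (Subgroup.centralizer {x ^ 2}) (Subgroup.mem_centralizer_singleton_iff.2 (Commute.pow_self x 2).symm.eq)
    (Subgroup.mem_centralizer_singleton_iff.2 S.rels.x2_central_y.symm.eq)
    (Subgroup.mem_centralizer_singleton_iff.2 S.rels.x2_central_z.symm.eq) g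
  exact Subgroup.mem_centralizer_singleton_iff.1 hg

theorem ker_le_even (S : Setup x y z π s) : π.ker ≤ (s.comp π).ker := fun g hg =>
  MonoidHom.mem_ker.2 (by rw [MonoidHom.comp_apply, MonoidHom.mem_ker.1 hg, map_one])

theorem card_ker (S : Setup x y z π s) : Nat.card ↥π.ker ≤ 6 := by
  obtain ⟨hf, hc⟩ := S.finite_P
  haveI := hf
  have := Subgroup.card_mul_index π.ker
  rw [Subgroup.index_ker, π.range_eq_top.2 S.surj, Subgroup.card_top, S.card] at this
  nlinarith

theorem perfect (S : Setup x y z π s) : ⁅(s.comp π).ker, (s.comp π).ker⁆ = (s.comp π).ker :=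
  S.rels.even_perfect S.gen _ S.sx S.sy S.sz

theorem simple_big (S : Setup x y z π s) : Nat.card ↥s.ker = 44352000 := by
  haveI := S.finite_A
  have := Subgroup.card_mul_index s.ker
  have hsur : s.range = ⊤ := by
    rw [eq_top_iff]
    intro u _
    rcases Int.units_eq_one_or u with rfl | rfl
    · exact one_mem _
    · exact ⟨π z, S.sz⟩
  rw [Subgroup.index_ker, hsur, Subgroup.card_top, Nat.card_eq_fintype_card (α := ℤˣ), Fintype.card_units_int, S.card] at this
  exact Nat.eq_of_mul_eq_mul_right two_pos (this.trans (by norm_num))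

theorem ker_central (S : Setup x y z π s) (hne : x ^ 2 ≠ 1) :
    (s.comp π).ker ≤ Subgroup.centralizer (π.ker : Set P) := by
  obtain ⟨hf, -⟩ := S.finite_P
  haveI := hf
  haveI := S.finite_A
  haveI := S.simple
  set K := (s.comp π).ker with hK
  set C := K ⊓ Subgroup.centralizer (π.ker : Set P) with hC
  let c := (⟨x ^ 2, MonoidHom.mem_ker.2 S.x2⟩ : ↥π.ker)
  have hcc : Subgroup.zpowers c ≤ Subgroup.center ↥π.ker := by
    rw [Subgroup.zpowers_le, Subgroup.mem_center_iff]
    exact fun g => Subtype.ext (S.x2_central g)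
  haveI : (Subgroup.zpowers c).Normal := ⟨fun n hn g => by
    rw [Subgroup.mem_center_iff.1 (hcc hn) g, mul_inv_cancel_right]; exact hn⟩
  have hq : Nat.card (↥π.ker ⧸ Subgroup.zpowers c) ≤ 3 := by
    have h1 := Subgroup.card_eq_card_quotient_mul_card_subgroup (Subgroup.zpowers c)
    have h2 : 2 ≤ Nat.card (Subgroup.zpowers c) := by
      haveI : Nontrivial (Subgroup.zpowers c) := ⟨⟨⟨c, Subgroup.mem_zpowers c⟩, 1, fun e => hne (congrArg (fun u : Subgroup.zpowers c => ((u : ↥π.ker) : P)) e)⟩⟩
      exact Finite.one_lt_card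
    have h3 := S.card_ker
    nlinarith
  -- C maps onto the simple group
  have hCn : C.Normal := inferInstance
  have himg : ∀ k ∈ K, ∃ u ∈ C, π u = π k := by
    haveI : (C.map π).Normal := hCn.map π S.surj
    haveI : ((C.map π).subgroupOf s.ker).Normal := inferInstance
    rcases IsSimpleGroup.eq_bot_or_eq_top_of_normal ((C.map π).subgroupOf s.ker) inferInstance with h | h
    · exfalso
      have hle : C ≤ π.ker := fun u hu => MonoidHom.mem_ker.2 (by
        have : (⟨π u, hu.1⟩ : ↥s.ker) ∈ (C.map π).subgroupOf s.ker := Subgroup.mem_subgroupOf.2 ⟨u, hu, rfl⟩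
        rw [h, Subgroup.mem_bot] at this
        exact congrArg Subtype.val this)
      have hc1 : Nat.card (↥K ⧸ ((Subgroup.centralizer (π.ker : Set P)).subgroupOf K)) ≤ 720 := by
        let act := MulAut.conjNormal (H := π.ker)
        let f : ↥K →* Equiv.Perm ↥π.ker := (MulAut.toPerm ↥π.ker).comp (act.comp K.subtype)
        have hf : f.ker = (Subgroup.centralizer (π.ker : Set P)).subgroupOf K := by
          ext k
          simp only [f, MonoidHom.mem_ker, Subgroup.mem_subgroupOf, Subgroup.mem_centralizer_iff, Equiv.ext_iff]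
          constructor
          · intro e m hm
            have := congrArg Subtype.val (e ⟨m, hm⟩)
            simp [act] at this
            exact (mul_inv_eq_iff_eq_mul.1 this).symm
          · intro e m
            apply Subtype.ext
            show (k : P) * (m : P) * (k : P)⁻¹ = (m : P)
            rw [← e m m.2, mul_inv_cancel_right]
        rw [← hf, Nat.card_congr (QuotientGroup.quotientKerEquivRange f).toEquiv]
        refine le_trans (Subgroup.card_le_card_group _) ?_
        rw [Nat.card_perm]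
        exact (Nat.factorial_le S.card_ker).trans (by decide)
      have h1 : Nat.card ↥((Subgroup.centralizer (π.ker : Set P)).subgroupOf K) ≤ 6 := by
        refine le_trans (Nat.card_le_card_of_injective (fun u => (⟨(u : ↥K), hle ⟨(u : ↥K).2, u.2⟩⟩ : ↥π.ker)) ?_) S.card_ker
        intro a b e
        exact Subtype.ext (Subtype.ext (congrArg (fun t : ↥π.ker => (t : P)) e))
      have h2 := Subgroup.card_eq_card_quotient_mul_card_subgroup ((Subgroup.centralizer (π.ker : Set P)).subgroupOf K)
      have h3 : Nat.card ↥s.ker ≤ Nat.card ↥K := Nat.card_le_card_of_surjective _ (evenMap_surjective π s S.surj)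
      have h4 := S.simple_big
      nlinarith
    · intro k hk
      have : (⟨π k, hk⟩ : ↥s.ker) ∈ (C.map π).subgroupOf s.ker := by rw [h]; trivial
      obtain ⟨u, hu, e⟩ := Subgroup.mem_subgroupOf.1 this
      exact ⟨u, hu, e⟩
  have hcom : ⁅K, K⁆ ≤ C := by
    rw [Subgroup.commutator_le]
    intro a ha b hb
    obtain ⟨u, hu, eu⟩ := himg a ha
    obtain ⟨v, hv, ev⟩ := himg b hb
    have pu : u⁻¹ * a ∈ π.ker := by rw [MonoidHom.mem_ker, map_mul, map_inv, eu, inv_mul_cancel]
    have pv : v⁻¹ * b ∈ π.ker := by rw [MonoidHom.mem_ker, map_mul, map_inv, ev, inv_mul_cancel]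
    rw [← QuotientGroup.eq_one_iff (N := C)]
    have ea : QuotientGroup.mk' C a = QuotientGroup.mk' C (u⁻¹ * a) := by
      rw [map_mul, map_inv, (QuotientGroup.eq_one_iff u).2 hu |> fun e => (e : QuotientGroup.mk' C u = 1), inv_one, one_mul]
    have eb : QuotientGroup.mk' C b = QuotientGroup.mk' C (v⁻¹ * b) := by
      rw [map_mul, map_inv, (QuotientGroup.eq_one_iff v).2 hv |> fun e => (e : QuotientGroup.mk' C v = 1), inv_one, one_mul]
    show QuotientGroup.mk' C ⁅a, b⁆ = 1
    rw [map_commutatorElement, ea, eb, ← map_commutatorElement]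
    apply (QuotientGroup.eq_one_iff _).2
    have hmem : ⁅(⟨_, pu⟩ : ↥π.ker), ⟨_, pv⟩⁆ ∈ Subgroup.zpowers c := by
      rw [← QuotientGroup.eq_one_iff]
      show QuotientGroup.mk' (Subgroup.zpowers c) _ = 1
      rw [map_commutatorElement, commutatorElement_eq_one_iff_mul_comm]
      exact comm_of_card_le_three hq _ _
    obtain ⟨n, hn⟩ := Subgroup.mem_zpowers_iff.1 hmem
    have hn' : (x ^ 2) ^ n = ⁅u⁻¹ * a, v⁻¹ * b⁆ := congrArg Subtype.val hn
    rw [← hn']
    refine Subgroup.zpow_mem C ⟨S.ker_le_even c.2, Subgroup.mem_centralizer_iff.2 fun m _ => S.x2_central m⟩ n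
  rw [S.perfect] at hcom
  exact fun k hk => (hcom hk).2

theorem ker_eq (S : Setup x y z π s) (hne : x ^ 2 ≠ 1) (g : P) (hg : π g = 1) : g = 1 ∨ g = x ^ 2 := by
  classical
  obtain ⟨hf, -⟩ := S.finite_P
  haveI := hf
  haveI := S.finite_A
  have hst : Cfsg.IsStemExtension (evenMap π s) := by
    refine ⟨evenMap_surjective π s S.surj, fun u hu => ?_, ?_⟩
    · rw [Subgroup.mem_center_iff]
      intro v
      exact Subtype.ext (Subgroup.mem_centralizer_iff.1 (S.ker_central hne v.2) u.1
        (congrArg Subtype.val (MonoidHom.mem_ker.1 hu))).symm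
    · intro u _
      have h1 : commutator ↥(s.comp π).ker = ⊤ := by
        apply Subgroup.map_injective (Subgroup.subtype_injective (s.comp π).ker)
        rw [commutator_def, Subgroup.map_commutator, ← MonoidHom.range_eq_map, Subgroup.range_subtype, S.perfect]
      rw [h1]; trivial
  obtain ⟨p, hp⟩ := S.mult.2 ↥(s.comp π).ker (evenMap π s) hst
  have hcard : Nat.card ↥(evenMap π s).ker ≤ 2 := by
    refine le_trans (Nat.card_le_card_of_surjective p hp) ?_
    simp
  by_contra hcon
  push Not at hcon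
  let mk : ∀ u : P, π u = 1 → ↥(evenMap π s).ker := fun u hu =>
    ⟨⟨u, S.ker_le_even hu⟩, MonoidHom.mem_ker.2 (Subtype.ext hu)⟩
  haveI := Fintype.ofFinite ↥(evenMap π s).ker
  have h3 : ({mk 1 (map_one π), mk g hg, mk (x ^ 2) S.x2} : Finset ↥(evenMap π s).ker).card = 3 := by
    rw [Finset.card_insert_of_notMem, Finset.card_insert_of_notMem, Finset.card_singleton]
    · simp [mk, Subtype.ext_iff, hcon.2]
    · simp [mk, Subtype.ext_iff, Ne.symm hcon.1, Ne.symm hne]
  have := h3 ▸ Finset.card_le_univ ({mk 1 (map_one π), mk g hg, mk (x ^ 2) S.x2} : Finset ↥(evenMap π s).ker)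
  rw [Nat.card_eq_fintype_card] at hcard
  omega

theorem even_index (S : Setup x y z π s) : (s.comp π).ker.index = 2 := by
  have hsur : (s.comp π).range = ⊤ := by
    rw [eq_top_iff]
    intro u _
    rcases Int.units_eq_one_or u with rfl | rfl
    · exact one_mem _
    · exact ⟨z, S.sz⟩
  rw [Subgroup.index_ker, hsur, Subgroup.card_top, Nat.card_eq_fintype_card, Fintype.card_units_int]

theorem cover (S : Setup x y z π s) (hne : x ^ 2 ≠ 1) :
    Cfsg.IsNonsplitDoubleCover ↥(s.comp π).ker ↥s.ker := by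
  obtain ⟨hf, -⟩ := S.finite_P
  haveI := hf
  haveI := S.finite_A
  haveI := S.simple
  set K := (s.comp π).ker with hK
  have hperf : commutator ↥K = ⊤ := by
    apply Subgroup.map_injective (Subgroup.subtype_injective K)
    rw [commutator_def, Subgroup.map_commutator, ← MonoidHom.range_eq_map, Subgroup.range_subtype, S.perfect]
  have hZ : Subgroup.center ↥K = (evenMap π s).ker := by
    apply le_antisymm
    · intro u hu
      have hcen : evenMap π s u ∈ Subgroup.center ↥s.ker := by
        rw [Subgroup.mem_center_iff]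
        intro v
        obtain ⟨w, rfl⟩ := evenMap_surjective π s S.surj v
        rw [← map_mul, ← map_mul, Subgroup.mem_center_iff.1 hu w]
      rcases IsSimpleGroup.eq_bot_or_eq_top_of_normal (Subgroup.center ↥s.ker) inferInstance with h | h
      · rw [h, Subgroup.mem_bot] at hcen
        exact hcen
      · exfalso
        have hle : commutator ↥K ≤ (evenMap π s).ker := by
          rw [commutator_def, Subgroup.commutator_le]
          intro a _ b _
          rw [MonoidHom.mem_ker, map_commutatorElement, commutatorElement_eq_one_iff_mul_comm]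
          exact (Subgroup.mem_center_iff.1 (by rw [h]; trivial : evenMap π s a ∈ Subgroup.center ↥s.ker) _).symm
        rw [hperf] at hle
        have : Subsingleton ↥s.ker := ⟨fun a b => by
          obtain ⟨a', rfl⟩ := evenMap_surjective π s S.surj a
          obtain ⟨b', rfl⟩ := evenMap_surjective π s S.surj b
          rw [MonoidHom.mem_ker.1 (hle (Subgroup.mem_top a')), MonoidHom.mem_ker.1 (hle (Subgroup.mem_top b'))]⟩
        have h4 := S.simple_big
        rw [Nat.card_of_subsingleton (1 : ↥s.ker)] at h4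
        omega
    · intro u hu
      rw [Subgroup.mem_center_iff]
      intro v
      exact Subtype.ext (Subgroup.mem_centralizer_iff.1 (S.ker_central hne v.2) u.1
        (congrArg Subtype.val (MonoidHom.mem_ker.1 hu))).symm
  have h2 : Nat.card (Subgroup.center ↥K) = 2 := by
    rw [Nat.card_eq_two_iff]
    have hk : (⟨x ^ 2, S.ker_le_even S.x2⟩ : ↥K) ∈ Subgroup.center ↥K := by
      rw [hZ]; exact MonoidHom.mem_ker.2 (Subtype.ext S.x2)
    refine ⟨1, ⟨_, hk⟩, fun e => hne (congrArg (fun t : Subgroup.center ↥K => ((t : ↥K) : P)) e).symm, ?_⟩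
    rw [Set.eq_univ_iff_forall]
    intro t
    have ht : π ((t : ↥K) : P) = 1 := by
      have := (hZ ▸ t.2 : (t : ↥K) ∈ (evenMap π s).ker)
      exact congrArg Subtype.val (MonoidHom.mem_ker.1 this)
    rcases S.ker_eq hne _ ht with e | e
    · exact Or.inl (Subtype.ext (Subtype.ext e))
    · exact Or.inr (Subtype.ext (Subtype.ext e))
  refine ⟨h2, ⟨(QuotientGroup.quotientMulEquivOfEq hZ).trans
    (QuotientGroup.quotientKerEquivOfSurjective _ (evenMap_surjective π s S.surj))⟩, fun L hL => ?_⟩
  have hle : commutator ↥K ≤ L := by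
    rw [commutator_def, Subgroup.commutator_le]
    intro a _ b _
    obtain ⟨⟨⟨p, hp⟩, ⟨l, hl⟩⟩, rfl⟩ := hL.2 a
    obtain ⟨⟨⟨q, hq⟩, ⟨m, hm⟩⟩, rfl⟩ := hL.2 b
    have hp' := Subgroup.mem_center_iff.1 hp
    have hq' := Subgroup.mem_center_iff.1 hq
    have : ⁅p * l, q * m⁆ = ⁅l, m⁆ := by
      rw [commutatorElement_def, commutatorElement_def]
      calc p * l * (q * m) * (p * l)⁻¹ * (q * m)⁻¹ = l * p * (m * q) * (p * l)⁻¹ * (q * m)⁻¹ := by rw [← hp' l, ← hq' m]
        _ = l * (p * m) * q * l⁻¹ * p⁻¹ * m⁻¹ * q⁻¹ := by group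
        _ = l * (m * p) * q * l⁻¹ * p⁻¹ * m⁻¹ * q⁻¹ := by rw [← hp' m]
        _ = l * m * ((p * q) * l⁻¹) * p⁻¹ * m⁻¹ * q⁻¹ := by group
        _ = l * m * (l⁻¹ * (p * q)) * p⁻¹ * m⁻¹ * q⁻¹ := by
          rw [(Subgroup.mem_center_iff.1 ((Subgroup.center ↥K).mul_mem hp hq) l⁻¹)]
        _ = l * m * l⁻¹ * (p * (q * p⁻¹)) * m⁻¹ * q⁻¹ := by group
        _ = l * m * l⁻¹ * (p * (p⁻¹ * q)) * m⁻¹ * q⁻¹ := by rw [hq' p⁻¹]
        _ = l * m * l⁻¹ * (q * m⁻¹) * q⁻¹ := by group
        _ = l * m * l⁻¹ * (m⁻¹ * q) * q⁻¹ := by rw [hq' m⁻¹]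
        _ = _ := by group
    show ⁅p * l, q * m⁆ ∈ L
    rw [this, commutatorElement_def]
    exact L.mul_mem (L.mul_mem (L.mul_mem hl hm) (L.inv_mem hl)) (L.inv_mem hm)
  rw [hperf, top_le_iff] at hle
  subst hle
  have := Subgroup.isComplement'_top_right.1 hL
  rw [this, Subgroup.card_bot] at h2
  omega

theorem inj (S : Setup x y z π s) {H : Type*} [Group H] (φ : P →* H) (hφ : φ (x ^ 2) ≠ 1) :
    Function.Injective φ := by
  have hne : x ^ 2 ≠ 1 := fun e => hφ (by rw [e, map_one])
  haveI := S.simple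
  set K := (s.comp π).ker with hK
  have hM0 : ∀ m, φ m = 1 → π m = 1 → m = 1 := fun m h1 h2 => by
    rcases S.ker_eq hne m h2 with e | e
    · exact e
    · exact absurd (e ▸ h1) hφ
  haveI : (φ.ker.map π).Normal := (MonoidHom.normal_ker φ).map π S.surj
  rw [← MonoidHom.ker_eq_bot_iff, Subgroup.eq_bot_iff_forall]
  rcases IsSimpleGroup.eq_bot_or_eq_top_of_normal ((φ.ker.map π).subgroupOf s.ker) inferInstance with h | h
  · have hsmall : ∀ m, φ m = 1 → s (π m) = 1 → m = 1 := fun m h1 h2 => by
      have : (⟨π m, h2⟩ : ↥s.ker) ∈ (φ.ker.map π).subgroupOf s.ker := Subgroup.mem_subgroupOf.2 ⟨m, h1, rfl⟩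
      rw [h, Subgroup.mem_bot] at this
      exact hM0 m h1 (congrArg Subtype.val this)
    intro m hm
    by_contra hm1
    have hm' : s (π m) ≠ 1 := fun e => hm1 (hsmall m hm e)
    have hcen : ∀ g, g * m = m * g := by
      intro g
      have h1 : φ (⁅g, m⁆) = 1 := by
        rw [map_commutatorElement, MonoidHom.mem_ker.1 hm, commutatorElement_one_right]
      have h2 : s (π ⁅g, m⁆) = 1 := by
        rw [map_commutatorElement, map_commutatorElement]
        exact commutatorElement_eq_one_iff_mul_comm.2 (mul_comm _ _)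
      exact commutatorElement_eq_one_iff_mul_comm.1 (hsmall _ h1 h2)
    have hπm : π m = 1 := S.centre _ fun b => by
      obtain ⟨g, rfl⟩ := S.surj b
      rw [← map_mul, ← map_mul, hcen g]
    exact hm1 (hM0 m hm hπm)
  · exfalso
    have hle : ⁅K, K⁆ ≤ φ.ker := by
      rw [Subgroup.commutator_le]
      intro a ha b hb
      have get : ∀ u ∈ K, ∃ m ∈ φ.ker, π m = π u := fun u hu => by
        have : (⟨π u, hu⟩ : ↥s.ker) ∈ (φ.ker.map π).subgroupOf s.ker := by rw [h]; trivial
        exact Subgroup.mem_subgroupOf.1 this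
      obtain ⟨m, hm, em⟩ := get a ha
      obtain ⟨n, hn, en⟩ := get b hb
      have hab : ∀ p q : P, π p = 1 → π q = 1 → φ p * φ q = φ q * φ p := fun p q hp hq => by
        rw [← map_mul, ← map_mul, Subgroup.mem_centralizer_iff.1 (S.ker_central hne (S.ker_le_even hq)) p hp]
      have ea : φ a = φ (m⁻¹ * a) := by rw [map_mul, map_inv, MonoidHom.mem_ker.1 hm, inv_one, one_mul]
      have eb : φ b = φ (n⁻¹ * b) := by rw [map_mul, map_inv, MonoidHom.mem_ker.1 hn, inv_one, one_mul]
      rw [MonoidHom.mem_ker, map_commutatorElement, ea, eb, commutatorElement_eq_one_iff_mul_comm]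
      exact hab _ _ (by rw [map_mul, map_inv, em, inv_mul_cancel]) (by rw [map_mul, map_inv, en, inv_mul_cancel])
    rw [S.perfect] at hle
    exact hφ (MonoidHom.mem_ker.1 (hle (S.ker_le_even S.x2)))

end Setup

end Cfsg.Agent.Spor.HNPres
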