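import Cfsg.Agent.Lib.Spor.HNPres.Perm
import Cfsg.Agent.Lib.Spor.HNPres.Bound

/-!
The three automorphisms of the graph satisfy the relations, and only the identity commutes with all of them.
-/

set_option autoImplicit false
set_option maxRecDepth 100000
set_option linter.style.haveILetI false

namespace Cfsg.Agent.Spor.HNPres.Perm

open Cfsg Cfsg.Agent.Lie.PermTable Cfsg.Agent.Spor.HSUnique

/-- the first list as a permutation -/
noncomputable def pX : Equiv.Perm (Fin 100) := HSGraph.lp (tab 0) (tab 1) aut0.1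
/-- the second list as a permutation -/
noncomputable def pY : Equiv.Perm (Fin 100) := HSGraph.lp (tab 3) (tab 2) aut2.2
/-- the third list as a permutation -/
noncomputable def pZ : Equiv.Perm (Fin 100) := HSGraph.lp (tab 4) (tab 5) aut4.1

theorem perm_rels :
    pY ^ 6 = 1 ∧ (pX ^ 2) * pY * (pX ^ 2) * (pY⁻¹) = 1 ∧ (pX⁻¹ * pY⁻¹ * pX * pY) ^ 3 = 1 ∧
    ((pX⁻¹) * (pY ^ 2) * pX * (pY ^ 3)) ^ 3 = 1 ∧ (pX * pY) ^ 8 = 1 ∧
    (pX * pY * pX * (pY ^ 3)) ^ 4 = 1 ∧ pZ ^ 2 = 1 ∧ (pZ * pX) ^ 2 = 1 ∧
    (pZ⁻¹ * (pY * pX * pY * pX * (pY ^ 2) * pX * (pY⁻¹))⁻¹ * pZ * (pY * pX * pY * pX * (pY ^ 2) * pX * (pY⁻¹))) *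
      ((pX ^ 2)⁻¹) = 1 ∧
    pZ * (((((pY ^ 3) * pX * pY * pX * pY)⁻¹ * pZ * ((pY ^ 3) * pX * pY * pX * pY)) * pX) ^ 3) = 1 ∧
    pX ^ 2 = 1 := by
  decide +kernel

theorem act_gens : act aX = pX ∧ act aY = pY ∧ act aZ = pZ :=
  ⟨act_el _ _ _, act_el _ _ _, act_el _ _ _⟩

theorem rels_A : Rels aX aY aZ := by
  obtain ⟨r1, r2, r3, r4, r5, r6, r7, r8, r9, r10, -⟩ := perm_rels
  obtain ⟨ex, ey, ez⟩ := act_gens
  exact
    { y6 := act_injective (by simp only [map_mul, map_inv, map_pow, map_one, ex, ey, ez]; exact r1)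
      r2 := act_injective (by simp only [map_mul, map_inv, map_pow, map_one, ex, ey, ez]; exact r2)
      r3 := act_injective (by simp only [map_mul, map_inv, map_pow, map_one, ex, ey, ez]; exact r3)
      r4 := act_injective (by simp only [map_mul, map_inv, map_pow, map_one, ex, ey, ez]; exact r4)
      r5 := act_injective (by simp only [map_mul, map_inv, map_pow, map_one, ex, ey, ez]; exact r5)
      r6 := act_injective (by simp only [map_mul, map_inv, map_pow, map_one, ex, ey, ez]; exact r6)
      zz := act_injective (by simp only [map_mul, map_inv, map_pow, map_one, ex, ey, ez]; exact r7)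
      zx := act_injective (by simp only [map_mul, map_inv, map_pow, map_one, ex, ey, ez]; exact r8)
      r9 := act_injective (by simp only [map_mul, map_inv, map_pow, map_one, ex, ey, ez]; exact r9)
      r10 := act_injective (by simp only [map_mul, map_inv, map_pow, map_one, ex, ey, ez]; exact r10) }

theorem aX_sq : aX ^ 2 = 1 := by
  apply act_injective
  rw [map_pow, map_one, act_gens.1]
  exact perm_rels.2.2.2.2.2.2.2.2.2.2

/-- the first level of the chain -/
def lvl0 : Lvl := chain.getD 0 ⟨0, 0, [], []⟩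

theorem orbit_zero : ((List.range 100).all fun k => (List.range 100).any fun i =>
    (lvl0.word i).all (fun x => Nat.blt x (6 + ops.length)) &&
      Nat.beq (evw tabF (lvl0.word i) 0) k) = true := by decide +kernel

theorem stab_zero : ((List.range 100).all fun k => Nat.beq k 0 || (List.range (6 + ops.length)).any fun j =>
    Nat.beq (tabF j 0) 0 && !(Nat.beq (tabF j k) k)) = true := by decide +kernel

theorem center_trivial (a : A) (hx : Commute a aX) (hy : Commute a aY) (hz : Commute a aZ) : a = 1 := by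
  haveI := finite_A
  have hall : ∀ g : A, Commute a g := by
    intro g
    have hle : Subgroup.closure ({aX, aY, aZ} : Set A) ≤ Subgroup.centralizer {a} := by
      rw [Subgroup.closure_le]
      rintro w (rfl | rfl | rfl) <;> simp [Subgroup.mem_centralizer_iff] <;> first | exact hx | exact hy | exact hz
    have hg : g ∈ Subgroup.centralizer ({a} : Set A) := hle (by rw [gen_top]; trivial)
    exact Subgroup.mem_centralizer_iff.1 hg a rfl
  have hop : ∀ i < ops.length, stepOK tabF 100 6 ops i = true := fun i hi =>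
    List.all_eq_true.1 ops_ok i (List.mem_range.2 hi)
  have h0 : ∀ i < 6, ∃ u ∈ (⊤ : Subgroup A), Cfsg.Agent.Lie.PermTable.Rep act u (tabF i) := by
    intro i hi
    interval_cases i
    · exact ⟨el _ _ aut0.1, trivial, rep_el _ (by norm_num) _ _⟩
    · exact ⟨el _ _ aut0.2, trivial, rep_el _ (by norm_num) _ _⟩
    · exact ⟨el _ _ aut2.1, trivial, rep_el _ (by norm_num) _ _⟩
    · exact ⟨el _ _ aut2.2, trivial, rep_el _ (by norm_num) _ _⟩
    · exact ⟨el _ _ aut4.1, trivial, rep_el _ (by norm_num) _ _⟩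
    · exact ⟨el _ _ aut4.2, trivial, rep_el _ (by norm_num) _ _⟩
  have hS := prog_mem (φ := act) (K := ⊤) h0 hop
  have hcomm : ∀ (u : A) (k : Fin 100), act u (act a k) = act a (act u k) := fun u k => by
    rw [← Equiv.Perm.mul_apply, ← map_mul, ← (hall u).eq, map_mul, Equiv.Perm.mul_apply]
  have hfix0 : act a 0 = 0 := by
    by_contra hne
    have h := List.all_eq_true.1 stab_zero (act a 0 : ℕ) (List.mem_range.2 (act a 0).2)
    rw [Bool.or_eq_true] at h
    rcases h with h | h
    · exact hne (Fin.ext (Nat.eq_of_beq_eq_true h))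
    · obtain ⟨j, hj, hj'⟩ := List.any_eq_true.1 h
      simp only [Bool.and_eq_true, Bool.not_eq_true', Nat.beq_eq] at hj'
      obtain ⟨u, -, ru⟩ := hS j (List.mem_range.1 hj)
      have e0 : act u 0 = 0 := Fin.ext (by rw [ru]; exact hj'.1)
      have h1 := hcomm u 0
      rw [e0] at h1
      have h2 := ru (act a 0)
      rw [h1] at h2
      have h3 := hj'.2
      rw [← h2] at h3
      simp at h3
  apply act_injective
  ext k
  obtain ⟨i, -, hi⟩ := List.any_eq_true.1 (List.all_eq_true.1 orbit_zero k (List.mem_range.2 k.2))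
  simp only [Bool.and_eq_true, List.all_eq_true, Nat.blt_eq, Nat.beq_eq] at hi
  obtain ⟨u, -, ru⟩ := word_rep (φ := act) (K := ⊤) hS _ hi.1
  have e : act u 0 = k := Fin.ext (by rw [ru]; exact hi.2)
  have h1 := hcomm u 0
  rw [hfix0, e] at h1
  rw [map_one, Equiv.Perm.one_apply, ← h1]

end Cfsg.Agent.Spor.HNPres.Perm
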