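import Cfsg.Agent.Lib.Spor.HNPres.Pack
import Cfsg.Agent.Lib.Spor.HNPres.RepData
import Cfsg.Prelude.Def_Spor_HN
import Mathlib.Tactic.IntervalCases

/-!
The presented group HN has a 133-dimensional representation in which the square of x is not one.
-/

set_option autoImplicit false
set_option maxRecDepth 100000
set_option exponentiation.threshold 4000

namespace Cfsg.Agent.Spor.HNPres.Rep

open Cfsg.Agent.Spor.HNPres.Pack

/-- matrices -/
abbrev Mat : Type := Matrix (Fin 133) (Fin 133) (ZMod 31)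

/-- x, packed -/
noncomputable def mX : ℕ := flat matX
/-- y, packed -/
noncomputable def mY : ℕ := flat matY
/-- z, packed -/
noncomputable def mZ : ℕ := flat matZ
/-- t, packed -/
noncomputable def mT : ℕ := flat matT
/-- inverse of x -/
noncomputable def mX' : ℕ := mm mX (mm mX mX)
/-- inverse of y -/
noncomputable def mY' : ℕ := mm mY (mm (mm mY mY) (mm mY mY))
/-- inverse of t -/
noncomputable def mT' : ℕ := mm (mm mT mT) (mm mT mT)

theorem gens_good : goodB matX = true ∧ goodB matY = true ∧ goodB matZ = true ∧ goodB matT = true := by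
  refine ⟨?_, ?_, ?_, ?_⟩ <;> decide +kernel

theorem gX : Good mX := good_of gens_good.1

theorem gY : Good mY := good_of gens_good.2.1

theorem gZ : Good mZ := good_of gens_good.2.2.1

theorem gT : Good mT := good_of gens_good.2.2.2

theorem good_mm {A B : ℕ} (hA : Good A) (hB : Good B) : Good (mm A B) := (mm_spec hA hB).1

theorem toMat_mm {A B : ℕ} (hA : Good A) (hB : Good B) : toMat (mm A B) = toMat A * toMat B :=
  (mm_spec hA hB).2

theorem gX' : Good mX' := good_mm gX (good_mm gX gX)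

theorem gY' : Good mY' := good_mm gY (good_mm (good_mm gY gY) (good_mm gY gY))

theorem gT' : Good mT' := good_mm (good_mm gT gT) (good_mm gT gT)

/-- the same number -/
def eqB (A B : ℕ) : Bool := Nat.beq A B

theorem inv_ok : eqB (mm mX mX') idM = true ∧ eqB (mm mY mY') idM = true ∧
    eqB (mm mT mT') idM = true ∧ eqB (mm mZ mZ) idM = true := by
  refine ⟨?_, ?_, ?_, ?_⟩ <;> decide +kernel

theorem one_of {A B : ℕ} (hA : Good A) (hB : Good B) (h : eqB (mm A B) idM = true) :
    toMat A * toMat B = 1 := by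
  rw [← toMat_mm hA hB, Nat.eq_of_beq_eq_true h, toMat_idM]

/-- a unit from a checked inverse -/
noncomputable def mkU (A B : ℕ) (hA : Good A) (hB : Good B) (h : eqB (mm A B) idM = true) : Matˣ :=
  ⟨toMat A, toMat B, one_of hA hB h, mul_eq_one_comm.1 (one_of hA hB h)⟩

/-- x -/
noncomputable def ux : Matˣ := mkU mX mX' gX gX' inv_ok.1
/-- y -/
noncomputable def uy : Matˣ := mkU mY mY' gY gY' inv_ok.2.1
/-- t -/
noncomputable def ut : Matˣ := mkU mT mT' gT gT' inv_ok.2.2.1
/-- z -/
noncomputable def uz : Matˣ := mkU mZ mZ gZ gZ inv_ok.2.2.2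

/-- expressions -/
inductive Ex
  /-- x -/
  | x
  /-- y -/
  | y
  /-- z -/
  | z
  /-- t -/
  | t
  /-- inverse of x -/
  | x'
  /-- inverse of y -/
  | y'
  /-- inverse of t -/
  | t'
  /-- product -/
  | mul (a b : Ex)
  /-- power -/
  | pow (a : Ex) (n : ℕ)

/-- powers of a number that is already evaluated -/
noncomputable def mpowR (A n : ℕ) : ℕ :=
  Nat.rec (motive := fun _ => ℕ) idM (fun k ih => bif Nat.beq k 0 then A else mm ih A) n

/-- powers -/
noncomputable def mpow (A n : ℕ) : ℕ := force A fun A => mpowR A n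

/-- the matrix of an expression -/
noncomputable def Ex.mat : Ex → ℕ
  | .x => mX
  | .y => mY
  | .z => mZ
  | .t => mT
  | .x' => mX'
  | .y' => mY'
  | .t' => mT'
  | .mul a b => mm a.mat b.mat
  | .pow a n => mpow a.mat n

/-- the value of an expression -/
noncomputable def Ex.val : Ex → Matˣ
  | .x => ux
  | .y => uy
  | .z => uz
  | .t => ut
  | .x' => ux⁻¹
  | .y' => uy⁻¹
  | .t' => ut⁻¹
  | .mul a b => a.val * b.val
  | .pow a n => a.val ^ n

theorem Ex.spec : ∀ e : Ex, Good e.mat ∧ toMat e.mat = (e.val : Mat)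
  | .x => ⟨gX, rfl⟩
  | .y => ⟨gY, rfl⟩
  | .z => ⟨gZ, rfl⟩
  | .t => ⟨gT, rfl⟩
  | .x' => ⟨gX', rfl⟩
  | .y' => ⟨gY', rfl⟩
  | .t' => ⟨gT', rfl⟩
  | .mul a b => by
    obtain ⟨ga, ea⟩ := Ex.spec a
    obtain ⟨gb, eb⟩ := Ex.spec b
    refine ⟨good_mm ga gb, ?_⟩
    show toMat (mm a.mat b.mat) = ((a.val * b.val : Matˣ) : Mat)
    rw [toMat_mm ga gb, ea, eb, Units.val_mul]
  | .pow a n => by
    obtain ⟨ga, ea⟩ := Ex.spec a
    show Good (mpow a.mat n) ∧ toMat (mpow a.mat n) = ((a.val ^ n : Matˣ) : Mat)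
    rw [mpow, force_eq]
    induction n with
    | zero =>
      refine ⟨good_of idL_ok.1, ?_⟩
      rw [pow_zero, Units.val_one]
      exact toMat_idM
    | succ n ih =>
      cases n with
      | zero =>
        refine ⟨ga, ?_⟩
        rw [pow_one]
        exact ea
      | succ m =>
        refine ⟨good_mm ih.1 ga, ?_⟩
        show toMat (mm (mpowR a.mat (m + 1)) a.mat) = _
        rw [toMat_mm ih.1 ga, ih.2, ea, pow_succ a.val (m + 1), Units.val_mul]

theorem Ex.val_one {e : Ex} (h : eqB e.mat idM = true) : e.val = 1 := by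
  apply Units.ext
  rw [Units.val_one, ← (Ex.spec e).2, Nat.eq_of_beq_eq_true h, toMat_idM]

/-- images of the generators -/
noncomputable def gen : Cfsg.Spor.HN.Gen → Matˣ
  | .x => ux
  | .y => uy
  | .z => uz
  | .t => ut

instance : Mul Ex := ⟨Ex.mul⟩
instance : Pow Ex ℕ := ⟨Ex.pow⟩

theorem val_mul (a b : Ex) : (a * b).val = a.val * b.val := rfl

theorem val_pow (a : Ex) (n : ℕ) : (a ^ n).val = a.val ^ n := rfl

section
open Ex (x y z t x' y' t')

/-- the word w -/
def ew : Ex := y * x * y * x * (y ^ 2) * x * y'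
/-- inverse of w -/
def ew' : Ex := y * x' * (y' ^ 2) * x' * y' * x' * y'
/-- the word v -/
def ev : Ex := (y ^ 3) * x * y * x * y
/-- inverse of v -/
def ev' : Ex := y' * x' * y' * x' * (y' ^ 3)

/-- the relators as expressions -/
def exRels : List Ex :=
  [y ^ 6, (x ^ 2) * y * (x ^ 2) * y', (x' * y' * x * y) ^ 3, (x' * (y ^ 2) * x * (y ^ 3)) ^ 3, (x * y) ^ 8,
   (x * y * x * (y ^ 3)) ^ 4, z ^ 2, (z * x) ^ 2, z * ew' * z * ew * (x' ^ 2), z * ((ev' * z * ev * x) ^ 3),
   t ^ 5, x' * t * x * (t ^ 2), t' * y' * t * y, (z * t) ^ 3]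

end

theorem rels_ok : ∀ i, i < 14 → eqB (exRels.getD i Ex.x).mat idM = true := by
  have h : (exRels.all fun e => eqB e.mat idM) = true := by decide +kernel
  intro i hi
  have hl : exRels.length = 14 := rfl
  rw [List.getD_eq_getElem _ _ (by omega)]
  exact List.all_eq_true.1 h _ (List.getElem_mem _)

theorem uz_inv : uz⁻¹ = uz := rfl

theorem gen_rels : ∀ r ∈ Cfsg.Spor.coxRelators Cfsg.Spor.HN.edges ∪ {r | r ∈ Cfsg.Spor.HN.extra},
    FreeGroup.lift gen r = 1 := by
  rintro r (⟨a, ha, -⟩ | hr)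
  · simp [Cfsg.Spor.HN.edges, Cfsg.Spor.coxNodes] at ha
  · obtain ⟨i, hi, rfl⟩ := List.getElem_of_mem hr
    have hi' : i < 14 := by simpa [Cfsg.Spor.HN.extra] using hi
    have h := Ex.val_one (rels_ok i hi')
    rw [← h]
    interval_cases i <;>
      simp [Cfsg.Spor.HN.extra, exRels, ew, ew', ev, ev', gen, val_mul, val_pow, Ex.val, uz_inv, ← inv_pow, mul_assoc]

/-- the homomorphism -/
noncomputable def hom : Cfsg.Spor.HN →* Matˣ := PresentedGroup.toGroup gen_rels

theorem xx00 : ent (mm mX mX) 0 0 = 30 := by decide +kernel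

theorem xx_ne : ux ^ 2 ≠ 1 := by
  intro h
  have h' : toMat (mm mX mX) = 1 := by
    rw [toMat_mm gX gX]
    have := congrArg Units.val h
    rwa [pow_two, Units.val_mul] at this
  have h00 : (ent (mm mX mX) ((0 : Fin 133) : ℕ) ((0 : Fin 133) : ℕ) : ZMod 31) = (1 : Mat) 0 0 :=
    congrFun (congrFun h' 0) 0
  rw [Fin.val_zero, xx00, Matrix.one_apply_eq] at h00
  revert h00
  decide

end Cfsg.Agent.Spor.HNPres.Rep
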