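import Cfsg.Agent.Lib.Spor.HNPres.Core
import Cfsg.Agent.Lib.Spor.HNPres.PermRels
import Cfsg.Agent.Lib.Spor.HNPres.Rep
import Cfsg.Agent.Lib.Lie.HigmanSimsMult.Main
import Cfsg.Prelude.Def_SporadicB

/-!
The subgroup on x, y, z of the presented HN has a double cover of HS as a subgroup of index two.
-/

set_option autoImplicit false
set_option linter.style.haveILetI false

namespace Cfsg.Agent.Spor.HNPres

open Cfsg.Agent.Spor.HSUnique

/-- the ten relators -/
def relList {G : Type*} [Group G] (x y z : G) : List G :=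
  [y ^ 6, (x ^ 2) * y * (x ^ 2) * (y⁻¹), (x⁻¹ * y⁻¹ * x * y) ^ 3, ((x⁻¹) * (y ^ 2) * x * (y ^ 3)) ^ 3,
   (x * y) ^ 8, (x * y * x * (y ^ 3)) ^ 4, z ^ 2, (z * x) ^ 2,
   (z⁻¹ * (y * x * y * x * (y ^ 2) * x * (y⁻¹))⁻¹ * z * (y * x * y * x * (y ^ 2) * x * (y⁻¹))) * ((x ^ 2)⁻¹),
   z * (((((y ^ 3) * x * y * x * y)⁻¹ * z * ((y ^ 3) * x * y * x * y)) * x) ^ 3)]

theorem relList_map {G H : Type*} [Group G] [Group H] (f : G →* H) (x y z : G) :
    (relList x y z).map f = relList (f x) (f y) (f z) := by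
  simp only [relList, List.map_cons, List.map_nil, map_mul, map_inv, map_pow]

theorem relList_one {G : Type*} [Group G] {x y z : G} (h : Rels x y z) : ∀ r ∈ relList x y z, r = 1 := by
  intro r hr
  simp only [relList, List.mem_cons, List.not_mem_nil, or_false] at hr
  rcases hr with rfl | rfl | rfl | rfl | rfl | rfl | rfl | rfl | rfl | rfl
  exacts [h.y6, h.r2, h.r3, h.r4, h.r5, h.r6, h.zz, h.zx, h.r9, h.r10]

theorem rels_of_list {G : Type*} [Group G] {x y z : G} (h : ∀ r ∈ relList x y z, r = 1) : Rels x y z := by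
  simp only [relList, List.forall_mem_cons] at h
  obtain ⟨r1, r2, r3, r4, r5, r6, r7, r8, r9, r10, -⟩ := h
  exact ⟨r1, r2, r3, r4, r5, r6, r7, r8, r9, r10⟩

/-- the relators on three letters -/
def prels : Set (FreeGroup (Fin 3)) :=
  {r | r ∈ relList (FreeGroup.of 0) (FreeGroup.of 1) (FreeGroup.of (2 : Fin 3))}

/-- the group on three generators -/
abbrev PXYZ : Type := PresentedGroup prels

/-- x -/
def px : PXYZ := PresentedGroup.of 0
/-- y -/
def py : PXYZ := PresentedGroup.of 1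
/-- z -/
def pz : PXYZ := PresentedGroup.of 2

theorem p_gen : Subgroup.closure ({px, py, pz} : Set PXYZ) = ⊤ := by
  rw [eq_top_iff, ← PresentedGroup.closure_range_of prels]
  apply Subgroup.closure_mono
  rintro _ ⟨i, rfl⟩
  fin_cases i <;> simp [px, py, pz]

theorem p_rels : Rels px py pz := by
  apply rels_of_list
  intro r hr
  rw [show px = PresentedGroup.mk prels (FreeGroup.of 0) from rfl,
    show py = PresentedGroup.mk prels (FreeGroup.of 1) from rfl,
    show pz = PresentedGroup.mk prels (FreeGroup.of 2) from rfl, ← relList_map] at hr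
  obtain ⟨w, hw, rfl⟩ := List.mem_map.1 hr
  exact PresentedGroup.one_of_mem hw

theorem lift_ok {G : Type*} [Group G] {a b c : G} (h : Rels a b c) :
    ∀ r ∈ prels, FreeGroup.lift ![a, b, c] r = 1 := by
  intro r hr
  have h1 : FreeGroup.lift ![a, b, c] r ∈ (relList (FreeGroup.of 0) (FreeGroup.of 1) (FreeGroup.of (2 : Fin 3))).map
      (FreeGroup.lift ![a, b, c]) := List.mem_map_of_mem hr
  rw [relList_map] at h1
  simp only [FreeGroup.lift_apply_of] at h1
  exact relList_one h _ h1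

/-- the map onto the automorphism group of the graph -/
noncomputable def pToA : PXYZ →* Perm.A := PresentedGroup.toGroup (lift_ok Perm.rels_A)

theorem pToA_gens : pToA px = Perm.aX ∧ pToA py = Perm.aY ∧ pToA pz = Perm.aZ :=
  ⟨PresentedGroup.toGroup.of _, PresentedGroup.toGroup.of _, PresentedGroup.toGroup.of _⟩

theorem pToA_surj : Function.Surjective pToA := by
  rw [← MonoidHom.range_eq_top, eq_top_iff, ← Perm.gen_top, Subgroup.closure_le]
  rintro w (rfl | rfl | rfl)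
  exacts [⟨px, pToA_gens.1⟩, ⟨py, pToA_gens.2.1⟩, ⟨pz, pToA_gens.2.2⟩]

theorem modelH_hs : Nonempty (↥modelH ≃* ↥Cfsg.Spor.HS) := by
  obtain ⟨e2, -⟩ := hs_graph_group
  obtain ⟨e3⟩ := hs_equiv
  exact ⟨e2.symm.trans e3⟩

theorem even_mult : Cfsg.HasCyclicSchurMultiplier ↥Perm.sgn.ker 2 := by
  obtain ⟨e⟩ := modelH_hs
  let e' : ↥Perm.sgn.ker ≃* ↥Cfsg.Spor.HS := (MulEquiv.subgroupCongr Perm.sgn_ker).trans e
  obtain ⟨⟨Γ, hΓ, hF, σ, ⟨hs, hc, hd⟩, ⟨q⟩⟩, hmax⟩ := Cfsg.Agent.Lie.HigmanSimsMult.multiplier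
  have hk : ∀ {Γ : Type} [Group Γ] {G H : Type} [Group G] [Group H] (σ : Γ →* G) (f : G ≃* H),
      (f.toMonoidHom.comp σ).ker = σ.ker := fun σ f => by
    ext u
    simp [MonoidHom.mem_ker]
  refine ⟨⟨Γ, hΓ, hF, e'.symm.toMonoidHom.comp σ, ⟨?_, ?_, ?_⟩, ⟨(MulEquiv.subgroupCongr (hk σ e'.symm)).trans q⟩⟩,
    fun Γ _ _ τ hτ => ?_⟩
  · exact e'.symm.surjective.comp hs
  · rw [hk σ e'.symm]; exact hc
  · rw [hk σ e'.symm]; exact hd
  · obtain ⟨p, hp⟩ := hmax Γ (e'.toMonoidHom.comp τ)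
      ⟨e'.surjective.comp hτ.1, by rw [hk τ e']; exact hτ.2.1, by rw [hk τ e']; exact hτ.2.2⟩
    exact ⟨(MulEquiv.subgroupCongr (hk τ e')).toMonoidHom.comp p, (MulEquiv.subgroupCongr (hk τ e')).surjective.comp hp⟩

theorem setup : Setup px py pz pToA Perm.sgn where
  rels := p_rels
  gen := p_gen
  surj := pToA_surj
  card := Perm.card_A
  sx := by rw [pToA_gens.1]; exact Perm.sgn_gens.1
  sy := by rw [pToA_gens.2.1]; exact Perm.sgn_gens.2.1
  sz := by rw [pToA_gens.2.2]; exact Perm.sgn_gens.2.2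
  x2 := by rw [map_pow, pToA_gens.1]; exact Perm.aX_sq
  simple := by rw [Perm.sgn_ker]; exact modelH_spec.1
  mult := even_mult
  centre := fun a ha => Perm.center_trivial a (ha _) (ha _) (ha _)

/-- x in the presented HN -/
def hx : Cfsg.Spor.HN := PresentedGroup.mk _ Cfsg.Spor.HN.x
/-- y in the presented HN -/
def hy : Cfsg.Spor.HN := PresentedGroup.mk _ Cfsg.Spor.HN.y
/-- z in the presented HN -/
def hz : Cfsg.Spor.HN := PresentedGroup.mk _ Cfsg.Spor.HN.z

theorem hn_rels : Rels hx hy hz := by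
  apply rels_of_list
  intro r hr
  rw [hx, hy, hz, ← relList_map] at hr
  obtain ⟨w, hw, rfl⟩ := List.mem_map.1 hr
  apply PresentedGroup.one_of_mem
  refine Or.inr ?_
  have e : relList Cfsg.Spor.HN.x Cfsg.Spor.HN.y Cfsg.Spor.HN.z = Cfsg.Spor.HN.extra.take 10 := rfl
  rw [e] at hw
  exact List.mem_of_mem_take hw

/-- the map into HN -/
noncomputable def pToHN : PXYZ →* Cfsg.Spor.HN := PresentedGroup.toGroup (lift_ok hn_rels)

theorem pToHN_gens : pToHN px = hx ∧ pToHN py = hy ∧ pToHN pz = hz :=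
  ⟨PresentedGroup.toGroup.of _, PresentedGroup.toGroup.of _, PresentedGroup.toGroup.of _⟩

theorem pToHN_x2 : pToHN (px ^ 2) ≠ 1 := by
  intro h
  have := congrArg Rep.hom h
  rw [map_pow, pToHN_gens.1, map_pow, map_one] at this
  have e : Rep.hom hx = Rep.ux :=
    PresentedGroup.toGroup.of (x := Cfsg.Spor.HN.Gen.x) Rep.gen_rels
  rw [e] at this
  exact Rep.xx_ne this

theorem range_eq : (Subgroup.closure ({Cfsg.Spor.HN.x, Cfsg.Spor.HN.y, Cfsg.Spor.HN.z} : Set (FreeGroup Cfsg.Spor.HN.Gen))).map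
    (PresentedGroup.mk (Cfsg.Spor.coxRelators Cfsg.Spor.HN.edges ∪ {r | r ∈ Cfsg.Spor.HN.extra})) = pToHN.range := by
  rw [MonoidHom.range_eq_map, ← p_gen, MonoidHom.map_closure, MonoidHom.map_closure]
  congr 1
  simp only [Set.image_insert_eq, Set.image_singleton]
  rw [pToHN_gens.1, pToHN_gens.2.1, pToHN_gens.2.2]
  rfl

theorem cover_congr {H H' K K' : Type*} [Group H] [Group H'] [Group K] [Group K'] (e : H ≃* H') (f : K ≃* K')
    (h : Cfsg.IsNonsplitDoubleCover H K) : Cfsg.IsNonsplitDoubleCover H' K' := by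
  obtain ⟨h1, ⟨q⟩, h3⟩ := h
  have hc : (Subgroup.center H).map e.toMonoidHom = Subgroup.center H' := by
    ext u
    constructor
    · rintro ⟨v, hv, rfl⟩
      rw [Subgroup.mem_center_iff]
      intro w
      obtain ⟨w, rfl⟩ := e.surjective w
      show e w * e v = e v * e w
      rw [← map_mul, ← map_mul, Subgroup.mem_center_iff.1 hv w]
    · intro hu
      refine ⟨e.symm u, ?_, e.apply_symm_apply u⟩
      rw [SetLike.mem_coe, Subgroup.mem_center_iff]
      intro w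
      apply e.injective
      rw [map_mul, map_mul, e.apply_symm_apply, Subgroup.mem_center_iff.1 hu (e w)]
  refine ⟨?_, ⟨(QuotientGroup.congr _ _ e hc).symm.trans (q.trans f)⟩, fun L hL => h3 (L.comap e.toMonoidHom) ?_⟩
  · rw [← h1, ← hc]
    exact (Nat.card_congr (e.subgroupMap _).toEquiv).symm
  · constructor
    · rintro ⟨⟨a, ha⟩, ⟨b, hb⟩⟩ ⟨⟨c, hc'⟩, ⟨d, hd⟩⟩ he
      have := @hL.1 (⟨e a, hc ▸ ⟨a, ha, rfl⟩⟩, ⟨e b, hb⟩) (⟨e c, hc ▸ ⟨c, hc', rfl⟩⟩, ⟨e d, hd⟩)
        (by show e a * e b = e c * e d; rw [← map_mul, ← map_mul]; exact congrArg e he)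
      simp only [Prod.mk.injEq, Subtype.mk.injEq, e.apply_eq_iff_eq] at this
      exact Prod.ext (Subtype.ext this.1) (Subtype.ext (e.injective (congrArg Subtype.val this.2)))
    · intro u
      obtain ⟨⟨⟨a, ha⟩, ⟨b, hb⟩⟩, hab⟩ := hL.2 (e u)
      rw [← hc] at ha
      obtain ⟨a', ha', rfl⟩ := ha
      refine ⟨(⟨a', ha'⟩, ⟨e.symm b, by show e (e.symm b) ∈ L; rw [e.apply_symm_apply]; exact hb⟩), ?_⟩
      apply e.injective
      show e (a' * e.symm b) = e u
      rw [map_mul, e.apply_symm_apply]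
      exact hab

/-- the theorem -/
theorem main : ∃ K : Subgroup ↥pToHN.range, K.Normal ∧ K.index = 2 ∧ Cfsg.IsNonsplitDoubleCover K Cfsg.Spor.HS := by
  let e := MonoidHom.ofInjective (setup.inj pToHN pToHN_x2)
  obtain ⟨eh⟩ := modelH_hs
  refine ⟨(Perm.sgn.comp pToA).ker.map e.toMonoidHom, (MonoidHom.normal_ker _).map _ e.surjective, ?_,
    cover_congr (e.subgroupMap _) ((MulEquiv.subgroupCongr Perm.sgn_ker).trans eh)
      (setup.cover fun h => pToHN_x2 (by rw [h, map_one]))⟩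
  exact (Subgroup.index_map_equiv _ e).trans setup.even_index

end Cfsg.Agent.Spor.HNPres
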