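import Mathlib.Data.Matrix.Mul
import Mathlib.Data.ZMod.Basic
import Mathlib.Algebra.BigOperators.Fin
import Mathlib.Data.List.GetD
import Mathlib.Tactic.Ring
import Mathlib.Tactic.NormNum

/-!
Matrices of size 133 over the integers mod 31, each packed into a single number: fields of twenty bits
inside rows of 2660 bits.
-/

set_option autoImplicit false
set_option maxRecDepth 100000
set_option exponentiation.threshold 4000

namespace Cfsg.Agent.Spor.HNPres.Pack

/-- packing into fields of `w` bits -/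
def pk (w : ℕ) : ℕ → (ℕ → ℕ) → ℕ
  | 0, _ => 0
  | n + 1, f => f 0 + 2 ^ w * pk w n (fun i => f (i + 1))

/-- a field -/
def fld (w x i : ℕ) : ℕ := Nat.land (Nat.shiftRight x (Nat.mul w i)) (Nat.sub (Nat.pow 2 w) 1)

theorem fld_def (w x i : ℕ) : fld w x i = (x >>> (w * i)) &&& (2 ^ w - 1) := rfl

theorem pk_congr (w : ℕ) : ∀ (n : ℕ) (f g : ℕ → ℕ), (∀ i < n, f i = g i) → pk w n f = pk w n g
  | 0, _, _, _ => rfl
  | n + 1, f, g, h => by
    rw [pk, pk, h 0 (by omega), pk_congr w n _ _ fun i hi => h (i + 1) (by omega)]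

theorem pk_add (w : ℕ) : ∀ (n : ℕ) (f g : ℕ → ℕ), pk w n f + pk w n g = pk w n fun i => f i + g i
  | 0, _, _ => rfl
  | n + 1, f, g => by
    rw [pk, pk, pk, ← pk_add w n]
    ring

theorem pk_mul (w c : ℕ) : ∀ (n : ℕ) (f : ℕ → ℕ), c * pk w n f = pk w n fun i => c * f i
  | 0, _ => Nat.mul_zero c
  | n + 1, f => by
    rw [pk, pk, ← pk_mul w c n]
    ring

theorem pk_zero (w : ℕ) : ∀ n : ℕ, pk w n (fun _ => 0) = 0
  | 0 => rfl
  | n + 1 => by rw [pk, pk_zero w n, Nat.mul_zero]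

theorem pk_lt (w : ℕ) : ∀ (n : ℕ) (f : ℕ → ℕ), (∀ i < n, f i < 2 ^ w) → pk w n f < 2 ^ (w * n)
  | 0, _, _ => by simp [pk]
  | n + 1, f, h => by
    have ih := pk_lt w n (fun i => f (i + 1)) fun i hi => h (i + 1) (by omega)
    have h0 := h 0 (by omega)
    rw [pk, Nat.mul_succ, Nat.add_comm (w * n) w, pow_add]
    calc f 0 + 2 ^ w * pk w n (fun i => f (i + 1)) < 2 ^ w + 2 ^ w * pk w n (fun i => f (i + 1)) :=
          Nat.add_lt_add_right h0 _
      _ = 2 ^ w * (pk w n (fun i => f (i + 1)) + 1) := by ring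
      _ ≤ 2 ^ w * 2 ^ (w * n) := Nat.mul_le_mul_left _ ih

theorem shiftW (w a R : ℕ) (ha : a < 2 ^ w) : (a + 2 ^ w * R) >>> w = R := by
  rw [Nat.shiftRight_eq_div_pow, Nat.add_mul_div_left _ _ (Nat.two_pow_pos w), Nat.div_eq_of_lt ha, Nat.zero_add]

theorem fld_zero (w x : ℕ) : fld w x 0 = x % 2 ^ w := by
  rw [fld_def, Nat.mul_zero, Nat.shiftRight_zero, Nat.and_two_pow_sub_one_eq_mod]

theorem fld_succ (w x i : ℕ) : fld w x (i + 1) = fld w (x >>> w) i := by
  rw [fld_def, fld_def, ← Nat.shiftRight_add, Nat.mul_succ, Nat.add_comm]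

theorem fld_lt (w x i : ℕ) : fld w x i < 2 ^ w := by
  rw [fld_def, Nat.and_two_pow_sub_one_eq_mod]
  exact Nat.mod_lt _ (Nat.two_pow_pos w)

theorem fld_pk (w : ℕ) : ∀ (n : ℕ) (f : ℕ → ℕ), (∀ i < n, f i < 2 ^ w) → ∀ j < n, fld w (pk w n f) j = f j
  | 0, _, _, j, hj => absurd hj (Nat.not_lt_zero j)
  | n + 1, f, h, 0, _ => by
    rw [fld_zero, pk, Nat.add_mul_mod_self_left, Nat.mod_eq_of_lt (h 0 (by omega))]
  | n + 1, f, h, j + 1, hj => by
    rw [fld_succ, pk, shiftW w _ _ (h 0 (by omega))]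
    exact fld_pk w n _ (fun i hi => h (i + 1) (by omega)) j (by omega)

theorem eq_pk (w : ℕ) : ∀ (n x : ℕ), x < 2 ^ (w * n) → x = pk w n (fld w x)
  | 0, x, h => by simp at h; simp [pk, h]
  | n + 1, x, h => by
    have h' : x >>> w < 2 ^ (w * n) := by
      rw [Nat.shiftRight_eq_div_pow, Nat.div_lt_iff_lt_mul (Nat.two_pow_pos w), ← pow_add]
      exact h
    have e := eq_pk w n _ h'
    rw [pk, fld_zero, pk_congr w n _ _ (fun i _ => fld_succ w x i), ← e, Nat.shiftRight_eq_div_pow]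
    exact (Nat.mod_add_div x _).symm

theorem and_split (w a b R S : ℕ) (ha : a < 2 ^ w) (hb : b < 2 ^ w) :
    (a + 2 ^ w * R) &&& (b + 2 ^ w * S) = (a &&& b) + 2 ^ w * (R &&& S) := by
  have hab : a &&& b < 2 ^ w := lt_of_le_of_lt Nat.and_le_left ha
  rw [Nat.add_comm a, Nat.add_comm b, Nat.add_comm (a &&& b)]
  apply Nat.eq_of_testBit_eq
  intro i
  rw [Nat.testBit_and, Nat.testBit_two_pow_mul_add _ ha, Nat.testBit_two_pow_mul_add _ hb,
    Nat.testBit_two_pow_mul_add _ hab]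
  split <;> simp [Nat.testBit_and]

theorem pk_and (w : ℕ) : ∀ (n : ℕ) (f g : ℕ → ℕ), (∀ i < n, f i < 2 ^ w) → (∀ i < n, g i < 2 ^ w) →
    pk w n f &&& pk w n g = pk w n fun i => f i &&& g i
  | 0, _, _, _, _ => by simp [pk]
  | n + 1, f, g, hf, hg => by
    rw [pk, pk, pk, and_split _ _ _ _ _ (hf 0 (by omega)) (hg 0 (by omega)),
      pk_and w n _ _ (fun i hi => hf (i + 1) (by omega)) (fun i hi => hg (i + 1) (by omega))]

theorem and_shifted (r M s : ℕ) : r &&& (M <<< s) = ((r >>> s) &&& M) <<< s := by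
  apply Nat.eq_of_testBit_eq
  intro i
  simp only [Nat.testBit_and, Nat.testBit_shiftLeft, Nat.testBit_shiftRight]
  by_cases h : s ≤ i
  · simp [h, Nat.add_sub_cancel' h]
  · simp [h]

/-- a matrix from its entries -/
def pm (F : ℕ → ℕ → ℕ) : ℕ := pk 2660 133 fun i => pk 20 133 (F i)

theorem pm_congr (F H : ℕ → ℕ → ℕ) (h : ∀ i < 133, ∀ j < 133, F i j = H i j) : pm F = pm H :=
  pk_congr _ _ _ _ fun i hi => pk_congr _ _ _ _ (h i hi)

theorem pm_add (F H : ℕ → ℕ → ℕ) : pm F + pm H = pm fun i j => F i j + H i j := by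
  rw [pm, pm, pk_add]
  exact pk_congr _ _ _ _ fun i _ => pk_add _ _ _ _

theorem pm_mul (c : ℕ) (F : ℕ → ℕ → ℕ) : c * pm F = pm fun i j => c * F i j := by
  rw [pm, pk_mul]
  exact pk_congr _ _ _ _ fun i _ => pk_mul _ _ _ _

theorem row_lt (f : ℕ → ℕ) (h : ∀ j < 133, f j < 1048576) : pk 20 133 f < 2 ^ 2660 := by
  have := pk_lt 20 133 f (fun j hj => lt_of_lt_of_eq (h j hj) (by norm_num))
  exact lt_of_lt_of_eq this (by rw [show 20 * 133 = 2660 from rfl])

theorem pm_and (F H : ℕ → ℕ → ℕ) (hF : ∀ i < 133, ∀ j < 133, F i j < 1048576)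
    (hH : ∀ i < 133, ∀ j < 133, H i j < 1048576) : pm F &&& pm H = pm fun i j => F i j &&& H i j := by
  rw [pm, pm, pk_and _ _ _ _ (fun i hi => row_lt _ (hF i hi)) (fun i hi => row_lt _ (hH i hi))]
  exact pk_congr _ _ _ _ fun i hi => pk_and _ _ _ _ (fun j hj => lt_of_lt_of_eq (hF i hi j hj) (by norm_num))
    (fun j hj => lt_of_lt_of_eq (hH i hi j hj) (by norm_num))

theorem pm_shift (F : ℕ → ℕ → ℕ) : (pm fun i j => 32 * F i j) >>> 5 = pm F := by
  rw [← pm_mul, Nat.shiftRight_eq_div_pow, show (2 : ℕ) ^ 5 = 32 from rfl]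
  exact Nat.mul_div_cancel_left _ (by norm_num)

/-- the entries of a packed matrix -/
def ent (A i j : ℕ) : ℕ := fld 20 (fld 2660 A i) j

theorem ent_pm (F : ℕ → ℕ → ℕ) (h : ∀ i < 133, ∀ j < 133, F i j < 1048576) {i j : ℕ} (hi : i < 133) (hj : j < 133) :
    ent (pm F) i j = F i j := by
  rw [ent, pm, fld_pk 2660 133 _ (fun k hk => row_lt _ (h k hk)) i hi,
    fld_pk 20 133 _ (fun k hk => lt_of_lt_of_eq (h i hi k hk) (by norm_num)) j hj]

/-- evaluates a number before it is used -/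
def force {α : Type} (k : ℕ) (f : ℕ → α) : α := Nat.rec (f 0) (fun n _ => f (Nat.succ n)) k

theorem force_eq {α : Type} (k : ℕ) (f : ℕ → α) : force k f = f k := by cases k <;> rfl

/-- the same entry in every position, built row by row -/
noncomputable def cst (w c n : ℕ) : ℕ :=
  Nat.rec (motive := fun _ => ℕ) 0 (fun _ ih => Nat.add c (Nat.mul (Nat.pow 2 w) ih)) n

theorem cst_eq (w c : ℕ) : ∀ n, cst w c n = pk w n fun _ => c
  | 0 => rfl
  | n + 1 => by
    show c + 2 ^ w * cst w c n = _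
    rw [cst_eq w c n, pk]

theorem pm_cst (c : ℕ) : cst 2660 (cst 20 c 133) 133 = pm fun _ _ => c := by
  rw [cst_eq, pm, cst_eq]

/-- one reduction round -/
noncomputable def rnd (x : ℕ) : ℕ := force x fun x =>
  Nat.add (Nat.land x (cst 2660 (cst 20 31 133) 133))
    (Nat.shiftRight (Nat.land x (cst 2660 (cst 20 1048544 133) 133)) 5)

/-- final correction -/
noncomputable def fin31 (x : ℕ) : ℕ := force x fun x =>
  Nat.land (Nat.add x (Nat.shiftRight (Nat.land (Nat.add x (cst 2660 (cst 20 1 133) 133))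
    (cst 2660 (cst 20 1048544 133) 133)) 5)) (cst 2660 (cst 20 31 133) 133)

/-- reduction modulo 31 in every field -/
noncomputable def red (x : ℕ) : ℕ := fin31 (rnd (rnd (rnd x)))

theorem hi_eq (a : ℕ) (ha : a < 1048576) : a &&& 1048544 = 32 * (a / 32) := by
  rw [show (1048544 : ℕ) = (2 ^ 15 - 1) <<< 5 from rfl, and_shifted, Nat.shiftRight_eq_div_pow,
    Nat.and_two_pow_sub_one_eq_mod, Nat.shiftLeft_eq, show (2 : ℕ) ^ 5 = 32 from rfl,
    show (2 : ℕ) ^ 15 = 32768 from rfl]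
  omega

theorem low_eq (a : ℕ) : a &&& 31 = a % 32 := Nat.and_two_pow_sub_one_eq_mod a 5

theorem rnd_pm (F : ℕ → ℕ → ℕ) (h : ∀ i < 133, ∀ j < 133, F i j < 1048576) :
    rnd (pm F) = pm fun i j => F i j % 32 + F i j / 32 := by
  rw [rnd, force_eq]
  show (pm F &&& cst 2660 (cst 20 31 133) 133) + ((pm F &&& cst 2660 (cst 20 1048544 133) 133) >>> 5) = _
  rw [pm_cst, pm_cst, pm_and _ _ h (fun _ _ _ _ => by omega), pm_and _ _ h (fun _ _ _ _ => by omega),
    pm_congr (fun i j => F i j &&& 1048544) (fun i j => 32 * (F i j / 32)) (fun i hi j hj => hi_eq _ (h i hi j hj)),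
    pm_shift, pm_add]
  exact pm_congr _ _ fun i _ j _ => by rw [low_eq]

theorem fin31_pm (F : ℕ → ℕ → ℕ) (h : ∀ i < 133, ∀ j < 133, F i j < 62) :
    fin31 (pm F) = pm fun i j => (F i j + (F i j + 1) / 32) % 32 := by
  rw [fin31, force_eq]
  show (pm F + (((pm F + cst 2660 (cst 20 1 133) 133) &&& cst 2660 (cst 20 1048544 133) 133) >>> 5)) &&&
    cst 2660 (cst 20 31 133) 133 = _
  rw [pm_cst, pm_cst, pm_cst, pm_add,
    pm_and _ _ (fun i hi j hj => by have := h i hi j hj; omega) (fun _ _ _ _ => by omega),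
    pm_congr (fun i j => (F i j + 1) &&& 1048544) (fun i j => 32 * ((F i j + 1) / 32))
      (fun i hi j hj => hi_eq _ (by have := h i hi j hj; omega)), pm_shift, pm_add,
    pm_and _ _ (fun i hi j hj => by have := h i hi j hj; omega) (fun _ _ _ _ => by omega)]
  exact pm_congr _ _ fun i _ j _ => low_eq _

theorem rnd_mod (a : ℕ) : (a % 32 + a / 32) % 31 = a % 31 := by omega

theorem fin_mod (a : ℕ) (h : a < 62) :
    (a + (a + 1) / 32) % 32 < 31 ∧ (a + (a + 1) / 32) % 32 % 31 = a % 31 := by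
  rcases Nat.lt_or_ge a 31 with h1 | h1
  · rw [show (a + 1) / 32 = 0 by omega, Nat.add_zero, Nat.mod_eq_of_lt (by omega : a < 32)]; omega
  · rw [show (a + 1) / 32 = 1 by omega, show (a + 1) % 32 = a - 31 by omega]; omega

theorem red_pm (F : ℕ → ℕ → ℕ) (h : ∀ i < 133, ∀ j < 133, F i j ≤ 119700) :
    ∃ H : ℕ → ℕ → ℕ, red (pm F) = pm H ∧ ∀ i < 133, ∀ j < 133, H i j < 31 ∧ H i j % 31 = F i j % 31 := by
  let f1 := fun i j => F i j % 32 + F i j / 32
  let f2 := fun i j => f1 i j % 32 + f1 i j / 32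
  let f3 := fun i j => f2 i j % 32 + f2 i j / 32
  have b1 : ∀ i < 133, ∀ j < 133, f1 i j ≤ 3771 := fun i hi j hj => by have := h i hi j hj; simp only [f1]; omega
  have b2 : ∀ i < 133, ∀ j < 133, f2 i j ≤ 148 := fun i hi j hj => by have := b1 i hi j hj; simp only [f2]; omega
  have b3 : ∀ i < 133, ∀ j < 133, f3 i j < 62 := fun i hi j hj => by have := b2 i hi j hj; simp only [f3]; omega
  unfold red
  rw [rnd_pm F fun i hi j hj => by have := h i hi j hj; omega]
  show ∃ H : ℕ → ℕ → ℕ, fin31 (rnd (rnd (pm f1))) = pm H ∧ _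
  rw [rnd_pm f1 fun i hi j hj => by have := b1 i hi j hj; omega]
  show ∃ H : ℕ → ℕ → ℕ, fin31 (rnd (pm f2)) = pm H ∧ _
  rw [rnd_pm f2 fun i hi j hj => by have := b2 i hi j hj; omega]
  show ∃ H : ℕ → ℕ → ℕ, fin31 (pm f3) = pm H ∧ _
  rw [fin31_pm f3 b3]
  refine ⟨_, rfl, fun i hi j hj => ?_⟩
  obtain ⟨h1, h2⟩ := fin_mod (f3 i j) (b3 i hi j hj)
  refine ⟨h1, h2.trans ?_⟩
  simp only [f3, f2, f1]
  rw [rnd_mod, rnd_mod, rnd_mod]

/-- one column, packed at the start of each row -/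
noncomputable def colOf (A k : ℕ) : ℕ :=
  Nat.shiftRight (Nat.land A (Nat.shiftLeft (cst 2660 1048575 133) (Nat.mul 20 k))) (Nat.mul 20 k)

theorem colOf_pm (F : ℕ → ℕ → ℕ) (h : ∀ i < 133, ∀ j < 133, F i j < 1048576) {k : ℕ} (hk : k < 133) :
    colOf (pm F) k = pk 2660 133 fun i => F i k := by
  show (pm F &&& (cst 2660 1048575 133 <<< (20 * k))) >>> (20 * k) = _
  rw [cst_eq, and_shifted, Nat.shiftLeft_shiftRight]
  apply Nat.eq_of_testBit_eq
  intro i
  have e : (pm F >>> (20 * k)) &&& pk 2660 133 (fun _ => 1048575) =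
      ((pm F &&& (pk 2660 133 (fun _ => 1048575) <<< (20 * k))) >>> (20 * k)) := by
    rw [and_shifted, Nat.shiftLeft_shiftRight]
  rw [e, Nat.shiftLeft_eq, Nat.mul_comm _ (2 ^ (20 * k)), pk_mul, pm]
  rw [pk_and _ _ _ _ (fun i hi => row_lt _ (h i hi)) (fun i _ => ?_)]
  · rw [pk_congr 2660 133 _ (fun i => 2 ^ (20 * k) * F i k) (fun i hi => ?_), ← pk_mul,
      Nat.shiftRight_eq_div_pow, Nat.mul_div_cancel_left _ (Nat.two_pow_pos _)]
    rw [Nat.mul_comm (2 ^ (20 * k)), ← Nat.shiftLeft_eq, and_shifted, show (1048575 : ℕ) = 2 ^ 20 - 1 from rfl,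
      ← fld_def, fld_pk 20 133 _ (fun j hj => lt_of_lt_of_eq (h i hi j hj) (by norm_num)) k hk, Nat.shiftLeft_eq,
      Nat.mul_comm]
  · calc 2 ^ (20 * k) * 1048575 < 2 ^ (20 * k) * 2 ^ 20 :=
        Nat.mul_lt_mul_of_pos_left (by norm_num) (Nat.two_pow_pos _)
      _ = 2 ^ (20 * k + 20) := (pow_add 2 _ _).symm
      _ ≤ 2 ^ 2660 := Nat.pow_le_pow_right (by norm_num) (by omega)

/-- sum of outer products -/
noncomputable def outer (A B n : ℕ) : ℕ :=
  Nat.rec (motive := fun _ => ℕ) 0 (fun k ih => Nat.add ih (Nat.mul (colOf A k) (fld 2660 B k))) n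

/-- product -/
noncomputable def mm (A B : ℕ) : ℕ := force A fun A => force B fun B => red (outer A B 133)

theorem outer_pm (F H : ℕ → ℕ → ℕ) (hF : ∀ i < 133, ∀ j < 133, F i j < 1048576)
    (hH : ∀ i < 133, ∀ j < 133, H i j < 1048576) :
    ∀ n ≤ 133, outer (pm F) (pm H) n = pm fun i j => ∑ k ∈ Finset.range n, F i k * H k j
  | 0, _ => by
    show (0 : ℕ) = _
    simp [pm, pk_zero]
  | n + 1, hn => by
    show outer (pm F) (pm H) n + colOf (pm F) n * fld 2660 (pm H) n = _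
    rw [outer_pm F H hF hH n (by omega), colOf_pm F hF (by omega)]
    conv_lhs => arg 2; arg 2; rw [pm, fld_pk 2660 133 _ (fun k hk => row_lt _ (hH k hk)) n (by omega)]
    rw [Nat.mul_comm, pk_mul]
    rw [show (pk 2660 133 fun i => pk 20 133 (H n) * F i n) = pm fun i j => F i n * H n j from
      pk_congr _ _ _ _ fun i _ => by rw [Nat.mul_comm, pk_mul], pm_add]
    exact pm_congr _ _ fun i _ j _ => by rw [Finset.sum_range_succ]

/-- a well-formed matrix -/
def Good (A : ℕ) : Prop := ∃ F : ℕ → ℕ → ℕ, A = pm F ∧ ∀ i < 133, ∀ j < 133, F i j < 31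

/-- a matrix from a list of rows -/
noncomputable def flat (L : List ℕ) : ℕ :=
  List.rec (motive := fun _ => ℕ) 0 (fun r _ ih => Nat.add r (Nat.mul (Nat.pow 2 2660) ih)) L

/-- test for a well-formed matrix -/
def goodB (L : List ℕ) : Bool :=
  Nat.beq L.length 133 && L.all fun r => Nat.blt r (2 ^ 2660) && (List.range 133).all fun j => Nat.blt (fld 20 r j) 31

theorem flat_eq : ∀ L : List ℕ, flat L = pk 2660 L.length fun i => L.getD i 0
  | [] => rfl
  | r :: L => by
    show r + 2 ^ 2660 * flat L = _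
    rw [flat_eq L, List.length_cons, pk]
    rfl

theorem good_of {L : List ℕ} (h : goodB L = true) : Good (flat L) := by
  rw [goodB, Bool.and_eq_true] at h
  have hl := Nat.eq_of_beq_eq_true h.1
  refine ⟨fun i j => fld 20 (L.getD i 0) j, ?_, fun i hi j hj => ?_⟩
  · rw [flat_eq, hl]
    refine pk_congr _ _ _ _ fun i hi => eq_pk 20 133 _ ?_
    rw [List.getD_eq_getElem _ _ (by omega)]
    have h2 := List.all_eq_true.1 h.2 _ (List.getElem_mem (show i < L.length by omega))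
    rw [Bool.and_eq_true] at h2
    exact lt_of_lt_of_eq (Nat.le_of_ble_eq_true h2.1) (by rw [show 20 * 133 = 2660 from rfl])
  · show fld 20 (L.getD i 0) j < 31
    rw [List.getD_eq_getElem _ _ (by omega)]
    have h2 := List.all_eq_true.1 h.2 _ (List.getElem_mem (show i < L.length by omega))
    rw [Bool.and_eq_true] at h2
    exact Nat.le_of_ble_eq_true (List.all_eq_true.1 h2.2 j (List.mem_range.2 hj))

/-- the matrix of a packed number -/
def toMat (A : ℕ) : Matrix (Fin 133) (Fin 133) (ZMod 31) := fun i j => (ent A i j : ZMod 31)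

theorem mm_spec {A B : ℕ} (hA : Good A) (hB : Good B) :
    Good (mm A B) ∧ toMat (mm A B) = toMat A * toMat B := by
  obtain ⟨F, eA, hF⟩ := hA
  obtain ⟨H, eB, hH⟩ := hB
  rw [eA, eB]
  have bF : ∀ i < 133, ∀ j < 133, F i j < 1048576 := fun i hi j hj => by have := hF i hi j hj; omega
  have bH : ∀ i < 133, ∀ j < 133, H i j < 1048576 := fun i hi j hj => by have := hH i hi j hj; omega
  rw [mm, force_eq, force_eq, outer_pm F H bF bH 133 le_rfl]
  obtain ⟨K, e, hK⟩ := red_pm (fun i j => ∑ k ∈ Finset.range 133, F i k * H k j) fun i hi j hj => by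
    calc (∑ k ∈ Finset.range 133, F i k * H k j) ≤ ∑ _k ∈ Finset.range 133, 30 * 30 :=
          Finset.sum_le_sum fun k hk => Nat.mul_le_mul (Nat.le_of_lt_succ (hF i hi k (Finset.mem_range.1 hk)))
            (Nat.le_of_lt_succ (hH k (Finset.mem_range.1 hk) j hj))
      _ ≤ 119700 := by simp
  rw [e]
  have bK : ∀ i < 133, ∀ j < 133, K i j < 1048576 := fun i hi j hj => by have := (hK i hi j hj).1; omega
  refine ⟨⟨K, rfl, fun i hi j hj => (hK i hi j hj).1⟩, ?_⟩
  ext i j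
  rw [Matrix.mul_apply]
  show (ent (pm K) i j : ZMod 31) = ∑ k : Fin 133, (ent (pm F) i k : ZMod 31) * (ent (pm H) k j : ZMod 31)
  rw [ent_pm K bK i.2 j.2, ← ZMod.natCast_mod, (hK i i.2 j j.2).2, ZMod.natCast_mod, Nat.cast_sum, Finset.sum_range]
  refine Finset.sum_congr rfl fun k _ => ?_
  rw [ent_pm F bF i.2 k.2, ent_pm H bH k.2 j.2, Nat.cast_mul]

/-- the rows of the identity -/
def idL : List ℕ := (List.range 133).map fun i => Nat.shiftLeft 1 (Nat.mul 20 i)

/-- the identity -/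
noncomputable def idM : ℕ := flat idL

theorem idL_ok : goodB idL = true ∧ ((List.range 133).all fun i => (List.range 133).all fun j =>
    Nat.beq (fld 20 (idL.getD i 0) j) (bif Nat.beq i j then 1 else 0)) = true := by
  constructor <;> decide +kernel

theorem toMat_flat {L : List ℕ} (h : goodB L = true) (i j : Fin 133) :
    toMat (flat L) i j = (fld 20 (L.getD i 0) j : ZMod 31) := by
  rw [goodB, Bool.and_eq_true] at h
  have hl := Nat.eq_of_beq_eq_true h.1
  show (ent (flat L) i j : ZMod 31) = _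
  rw [ent, flat_eq, hl, fld_pk 2660 133 _ (fun k hk => ?_) i i.2]
  rw [List.getD_eq_getElem _ _ (by omega)]
  have h2 := List.all_eq_true.1 h.2 _ (List.getElem_mem (show k < L.length by omega))
  rw [Bool.and_eq_true] at h2
  exact Nat.le_of_ble_eq_true h2.1

theorem toMat_idM : toMat idM = 1 := by
  ext i j
  have h := List.all_eq_true.1 (List.all_eq_true.1 idL_ok.2 i (List.mem_range.2 i.2)) j (List.mem_range.2 j.2)
  rw [idM, toMat_flat idL_ok.1, Nat.eq_of_beq_eq_true h]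
  by_cases hij : i = j
  · subst hij; simp
  · have : Nat.beq (i : ℕ) (j : ℕ) = false := by
      cases hb : Nat.beq (i : ℕ) (j : ℕ) with
      | false => rfl
      | true => exact absurd (Fin.ext (Nat.eq_of_beq_eq_true hb)) hij
    simp [hij, this]

end Cfsg.Agent.Spor.HNPres.Pack
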