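import Cfsg.Agent.Lib.Spor.HNPres.PermData
import Cfsg.Agent.Lib.Spor.HSRecog
import Mathlib.Tactic.IntervalCases
import Mathlib.GroupTheory.Perm.Sign

/-!
Three automorphisms of the Higman–Sims graph that generate its automorphism group and satisfy the
relations of the subgroup on x, y, z of the presented HN.
-/

set_option autoImplicit false
set_option maxRecDepth 100000

namespace Cfsg.Agent.Spor.HNPres.Perm

open Cfsg Cfsg.Agent.Lie.PermTable Cfsg.Agent.Spor.HSUnique

/-- the automorphism group of the graph -/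
abbrev A : Type := ↥(HSGraph.autSub modelB)

theorem he : (fun b : Finset (Fin 22) => b.image (Equiv.refl (Fin 22))) '' (HSGraph.model : Set (Finset (Fin 22))) =
    modelB := by
  simp [modelB]

theorem hne : ∀ b ∈ modelB, (b : Finset (Fin 22)).Nonempty := fun b hb =>
  Finset.card_pos.1 (by rw [HSGraph.model_steiner.1 b hb]; norm_num)

/-- the numbering of the vertices -/
noncomputable def vertEquiv : Fin 100 ≃ HSGraph.V modelB :=
  Equiv.ofBijective _ (HSGraph.vert_bij (Equiv.refl (Fin 22)) he)

/-- the action on numbers -/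
noncomputable def act : A →* Equiv.Perm (Fin 100) :=
  vertEquiv.symm.permCongrHom.toMonoidHom.comp (HSGraph.autSub modelB).subtype

theorem act_injective : Function.Injective act := fun _ _ h =>
  Subtype.ext (vertEquiv.symm.permCongrHom.injective h)

/-- entry of a table -/
def tab (i : ℕ) : List ℕ := tabs.getD i []

/-- the table as a function -/
def tabF (i k : ℕ) : ℕ := look packed i k

theorem tab_eq : ((List.range 6).all fun i => (List.range 100).all fun k => Nat.beq ((tab i).getD k 0) (tabF i k)) = true := by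
  decide +kernel

theorem tabF_of (i : ℕ) (hi : i < 6) (k : Fin 100) : (tab i).getD k 0 = tabF i k :=
  Nat.eq_of_beq_eq_true (List.all_eq_true.1 (List.all_eq_true.1 tab_eq i (List.mem_range.2 hi)) k (List.mem_range.2 k.2))

theorem aut0 : HSGraph.autOK (tab 0) (tab 1) = true ∧ HSGraph.autOK (tab 1) (tab 0) = true := by
  constructor <;> decide +kernel

theorem aut2 : HSGraph.autOK (tab 2) (tab 3) = true ∧ HSGraph.autOK (tab 3) (tab 2) = true := by
  constructor <;> decide +kernel

theorem aut4 : HSGraph.autOK (tab 4) (tab 5) = true ∧ HSGraph.autOK (tab 5) (tab 4) = true := by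
  constructor <;> decide +kernel

/-- an element from lists -/
noncomputable def el (l l' : List ℕ) (h : HSGraph.autOK l l' = true) : A :=
  HSGraph.transport (Equiv.refl (Fin 22)) he hne h

theorem act_el (l l' : List ℕ) (h : HSGraph.autOK l l' = true) : act (el l l' h) = HSGraph.lp l l' h := by
  apply Equiv.ext
  intro i
  show vertEquiv.symm ((el l l' h : Equiv.Perm (HSGraph.V modelB)) (vertEquiv i)) = _
  rw [Equiv.symm_apply_eq]
  exact HSGraph.transport_apply (Equiv.refl (Fin 22)) he hne h i

/-- x -/
noncomputable def aX : A := el (tab 0) (tab 1) aut0.1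
/-- y -/
noncomputable def aY : A := el (tab 3) (tab 2) aut2.2
/-- z -/
noncomputable def aZ : A := el (tab 4) (tab 5) aut4.1

theorem el_inv (l l' : List ℕ) (h : HSGraph.autOK l l' = true) (h' : HSGraph.autOK l' l = true) :
    (el l l' h)⁻¹ = el l' l h' := by
  apply act_injective
  rw [map_inv, act_el, act_el]
  rfl

theorem rep_el (i : ℕ) (hi : i < 6) (l' : List ℕ) (h : HSGraph.autOK (tab i) l' = true) :
    Cfsg.Agent.Lie.PermTable.Rep act (el (tab i) l' h) (tabF i) := by
  intro k
  rw [act_el, ← tabF_of i hi k]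
  rfl

theorem ops_ok : ((List.range ops.length).all fun i => stepOK tabF 100 6 ops i) = true := by decide +kernel

theorem chain_ok : (chainOK tabF 100 (6 + ops.length) chain [] && Nat.beq (chainSize chain) 88704000) = true := by
  decide +kernel

theorem card_A : Nat.card A = 88704000 := (HSGraph.hs_group (Fintype.card_fin 22) HSGraph.model_steiner).1

theorem finite_A : Finite A := Nat.finite_of_card_ne_zero (by rw [card_A]; norm_num)

theorem gen_top : Subgroup.closure ({aX, aY, aZ} : Set A) = ⊤ := by
  haveI := finite_A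
  set M := Subgroup.closure ({aX, aY, aZ} : Set A)
  have hx : aX ∈ M := Subgroup.subset_closure (by simp)
  have hy : aY ∈ M := Subgroup.subset_closure (by simp)
  have hz : aZ ∈ M := Subgroup.subset_closure (by simp)
  have h0 : ∀ i < 6, ∃ u ∈ M, Cfsg.Agent.Lie.PermTable.Rep act u (tabF i) := by
    intro i hi
    interval_cases i
    · exact ⟨_, hx, rep_el _ (by norm_num) _ aut0.1⟩
    · exact ⟨_, inv_mem hx, by rw [aX, el_inv _ _ _ aut0.2]; exact rep_el _ (by norm_num) _ aut0.2⟩
    · exact ⟨_, inv_mem hy, by rw [aY, el_inv _ _ _ aut2.1]; exact rep_el _ (by norm_num) _ aut2.1⟩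
    · exact ⟨_, hy, rep_el _ (by norm_num) _ aut2.2⟩
    · exact ⟨_, hz, rep_el _ (by norm_num) _ aut4.1⟩
    · exact ⟨_, inv_mem hz, by rw [aZ, el_inv _ _ _ aut4.2]; exact rep_el _ (by norm_num) _ aut4.2⟩
  have hops : ∀ i < ops.length, stepOK tabF 100 6 ops i = true := fun i hi =>
    List.all_eq_true.1 ops_ok i (List.mem_range.2 hi)
  have hS := prog_mem (φ := act) (K := M) h0 hops
  have hc := chain_ok
  rw [Bool.and_eq_true, Nat.beq_eq] at hc
  refine eq_top_iff.2 fun g _ => ?_
  exact chain_mem act_injective hS hc.1 (by rw [card_A, hc.2]) g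

/-- parity -/
noncomputable def sgn : A →* ℤˣ := Equiv.Perm.sign.comp act

theorem sgn_gens : sgn aX = 1 ∧ sgn aY = 1 ∧ sgn aZ = -1 := by
  have h : Equiv.Perm.sign (HSGraph.lp (tab 0) (tab 1) aut0.1) = 1 ∧
      Equiv.Perm.sign (HSGraph.lp (tab 3) (tab 2) aut2.2) = 1 ∧
      Equiv.Perm.sign (HSGraph.lp (tab 4) (tab 5) aut4.1) = -1 := by decide +kernel
  simp only [sgn, MonoidHom.comp_apply, aX, aY, aZ, act_el]
  exact h

theorem sgn_ker : sgn.ker = modelH := by
  haveI := finite_A
  obtain ⟨hs, hc⟩ := modelH_spec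
  haveI := hs
  have hle : modelH ≤ sgn.ker := by
    rcases IsSimpleGroup.eq_bot_or_eq_top_of_normal ((sgn.comp modelH.subtype).ker) inferInstance with h | h
    · exfalso
      have := Nat.card_le_card_of_injective _ ((MonoidHom.ker_eq_bot_iff _).1 h)
      rw [hc, Nat.card_eq_fintype_card, Fintype.card_units_int] at this
      omega
    · exact fun g hg => MonoidHom.mem_ker.2 (MonoidHom.mem_ker.1 (show (⟨g, hg⟩ : modelH) ∈ (sgn.comp modelH.subtype).ker by
        rw [h]; trivial))
  refine (Subgroup.eq_of_le_of_card_ge hle ?_).symm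
  have hsur : sgn.range = ⊤ := by
    rw [eq_top_iff]
    intro u _
    rcases Int.units_eq_one_or u with rfl | rfl
    · exact one_mem _
    · exact ⟨aZ, sgn_gens.2.2⟩
  have := Subgroup.card_mul_index sgn.ker
  rw [Subgroup.index_ker, hsur, Subgroup.card_top, Nat.card_eq_fintype_card (α := ℤˣ), Fintype.card_units_int, card_A] at this
  rw [hc]
  exact le_of_eq (Nat.eq_of_mul_eq_mul_right two_pos (this.trans (by norm_num)))

end Cfsg.Agent.Spor.HNPres.Perm
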